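import Cfsg.Agent.FS.Gen.K6_m3
import Cfsg.Agent.Prune
set_option linter.all false
prune_inst 0x7f00000000000000000000000000000000000000000000000000000000000000000000000000000000000000000000000000000000000000000000000000000000000000000000000000000000000000003fffffffffffffffffffffffffffbeffbdffffffff
open scoped Cfsg.Agent.FastGrp

/-!
# Faster kernel evaluation of the checks of `FS/Gen/Base` (project FS)

Tables with shared rows, products without a table, all relations in the lanes of one number; `sl` changes hash values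
only.
-/

set_option autoImplicit false

namespace Cfsg.Agent.FS.Gen.F

open Pc (el zp Base)

/-- `x`; the first argument only changes the hash value of the term -/
def sl (_h x : ℕ) : ℕ := x

def mk1 (k : ℕ) : ℕ := Nat.sub (Nat.pow 2 k) 1

def mlt (r w W M A B : ℕ) : ℕ :=
  Nat.xor (Nat.land (Nat.shiftRight (Nat.land (Nat.shiftRight M (Nat.mul W (Nat.shiftRight A r))) (mk1 W))
    (Nat.mul w (Nat.shiftRight B r))) (mk1 w)) (Nat.land (Nat.xor A B) (mk1 r))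

noncomputable def tre (W : ℕ) (f : ℕ → ℕ) (j : ℕ) : ℕ → ℕ :=
  Nat.rec f (fun j ih b => Nat.add (ih b) (Nat.shiftLeft (ih (Nat.add b (Nat.pow 2 j))) (Nat.shiftLeft W j))) j

def rwf (r W M O A : ℕ) : ℕ :=
  Nat.xor (Nat.land (Nat.shiftRight M (Nat.mul W (Nat.shiftRight A r))) (mk1 W)) (Nat.mul (Nat.land A (mk1 r)) O)

def phl (r w W M c P y : ℕ) : ℕ := mlt r w W M c (Nat.land (Nat.shiftRight P (Nat.mul w y)) (mk1 w))

noncomputable def ph (s r w W M : ℕ) (cj : ℕ → ℕ) (k : ℕ) : ℕ :=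
  Nat.rec 0 (fun j P => frc P fun P => Nat.add P (Nat.shiftLeft
    (tre w (phl r w W M (cj j) (sl (Nat.add s j) P)) j 0) (Nat.shiftLeft w j))) k

def lf0 (r w W M O H Φ x : ℕ) : ℕ :=
  Nat.add (Nat.land (Nat.shiftRight M (Nat.mul W x)) (mk1 W))
    (Nat.shiftLeft (Nat.xor (rwf r W M O (Nat.land (Nat.shiftRight Φ (Nat.mul w x)) (mk1 w))) H) W)

def lf1 (r w W M O H Φ p x : ℕ) : ℕ :=
  Nat.add (Nat.xor (Nat.land (Nat.shiftRight M (Nat.mul W x)) (mk1 W)) H)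
    (Nat.shiftLeft (rwf r W M O (mlt r w W M p (Nat.land (Nat.shiftRight Φ (Nat.mul w x)) (mk1 w)))) W)

noncomputable def stp (r w k W M O H Φ p : ℕ) : ℕ :=
  Nat.add (tre (Nat.add W W) (lf0 r w W M O H Φ) k 0)
    (Nat.shiftLeft (tre (Nat.add W W) (lf1 r w W M O H Φ p) k 0) (Nat.shiftLeft (Nat.add W W) k))

noncomputable def tb (s r w : ℕ) (R : ℕ → ℕ → ℕ) (n : ℕ) : ℕ :=
  Nat.rec 0 (fun k M => frc M fun M => frc (ph s r w (Nat.shiftLeft w k) (sl s M) (R k) k) fun Φ =>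
    stp r w k (Nat.shiftLeft w k) (sl s M) (ones w k) (Nat.mul (Nat.pow 2 (Nat.add r k)) (ones w k)) (sl s Φ) (R k k)) n

theorem tre_eq (W : ℕ) (f : ℕ → ℕ) : ∀ j b, tre W f j b = tree W f j b
  | 0, _ => rfl
  | j + 1, b => by
    rw [tree_succ, ← tre_eq W f j, ← tre_eq W f j, ← Nat.shiftLeft_eq W]
    rfl

theorem mlt_eq (r w W M A B : ℕ) : mlt r w W M A B = mul r w W M A B := (mul_eq r w W M A B).symm

theorem rwf_eq (r W M O A : ℕ) : rwf r W M O A = rowf r W M O A := (rowf_eq r W M O A).symm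

theorem ph_eq (s r w W M : ℕ) (cj : ℕ → ℕ) : ∀ k, ph s r w W M cj k = phi r w W M cj k
  | 0 => rfl
  | j + 1 => by
    have h1 : ph s r w W M cj (j + 1) = frc (ph s r w W M cj j) fun P => Nat.add P (Nat.shiftLeft
      (tre w (phl r w W M (cj j) (sl (Nat.add s j) P)) j 0) (Nat.shiftLeft w j)) := rfl
    rw [h1, frc_eq, phi_succ, ph_eq s r w W M cj j, tre_eq, ← Nat.shiftLeft_eq w,
      show phl r w W M (cj j) (sl (Nat.add s j) (phi r w W M cj j)) =
        fun y => mul r w W M (cj j) (gt w (phi r w W M cj j) y) from funext fun y => mlt_eq _ _ _ _ _ _]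
    rfl

theorem stp_eq (r w k W M O H Φ p : ℕ) : stp r w k W M O H Φ p = step r w k W M O H Φ p := by
  have h0 : lf0 r w W M O H Φ = fun x => Nat.add (gt W M x)
      (Nat.shiftLeft (Nat.xor (rowf r W M O (gt w Φ x)) H) W) := funext fun x => by rw [← rwf_eq]; rfl
  have h1 : lf1 r w W M O H Φ p = fun x => Nat.add (Nat.xor (gt W M x) H)
      (Nat.shiftLeft (rowf r W M O (mul r w W M p (gt w Φ x))) W) := funext fun x => by rw [← rwf_eq, ← mlt_eq]; rfl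
  unfold stp
  delta step
  rw [tre_eq, tre_eq, h0, h1]

theorem tb_eq (s r w : ℕ) (R : ℕ → ℕ → ℕ) : ∀ n, tb s r w R n = tab r w R n
  | 0 => rfl
  | k + 1 => by
    have h1 : tb s r w R (k + 1) = frc (tb s r w R k) fun M =>
      frc (ph s r w (Nat.shiftLeft w k) (sl s M) (R k) k) fun Φ => stp r w k (Nat.shiftLeft w k) (sl s M) (ones w k)
        (Nat.mul (Nat.pow 2 (Nat.add r k)) (ones w k)) (sl s Φ) (R k k) := rfl
    rw [h1, frc_eq, frc_eq, tab_succ, tb_eq s r w R k, ph_eq, stp_eq, ← Nat.shiftLeft_eq w]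
    rfl

/-! ### highest bits -/

def lgT : ℕ := 0x1ffffffffffffffffffffffffffffffffffffffffffffffffffffffffffffffffffffffffffffffffffffffffffffffffb6db6db6db6db6db6db6db6db6db6db6db6db6db6db6db6d6db6db6db6db6db6db6db6db249249249248db6db692448

def rmT : ℕ := 0x7f7e7d7c7b7a797877767574737271706f6e6d6c6b6a696867666564636261605f5e5d5c5b5a595857565554535251504f4e4d4c4b4a494847464544434241403f3e3d3c3b3a393837363534333231302f2e2d2c2b2a292827262524232221201f1e1d1c1b1a191817161514131211100f0e0d0c0b0a090807060504030201003f3e3d3c3b3a393837363534333231302f2e2d2c2b2a292827262524232221201f1e1d1c1b1a191817161514131211100f0e0d0c0b0a090807060504030201001f1e1d1c1b1a191817161514131211100f0e0d0c0b0a090807060504030201000f0e0d0c0b0a09080706050403020100070605040302010003020100010000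

def mkT : ℕ := 0xffffffffffffffffffffffffffffffffffffffffffffffffffffffffffffffffffffffffffffffffffffffffffffffffffffffffffffffffffffffffffffffffffffffffffffffffffffffffffffffffffffffffffffffffffffffffffffffffffffffffffffffffffffffffffffffffffffffffffffffffffffffffffffffff7f7f7f7f7f7f7f7f7f7f7f7f7f7f7f7f7f7f7f7f7f7f7f7f7f7f7f7f7f7f7f7f7f7f7f7f7f7f7f7f7f7f7f7f7f7f7f7f7f7f7f7f7f7f7f7f7f7f7f7f7f7f7f7f3f3f3f3f3f3f3f3f3f3f3f3f3f3f3f3f3f3f3f3f3f3f3f3f3f3f3f3f3f3f3f3f1f1f1f1f1f1f1f1f1f1f1f1f1f1f1f1f0f0f0f0f0f0f0f0f0707070703030100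

/-- the highest bit of `p + 1` -/
def lgp (p : ℕ) : ℕ := Nat.land (Nat.shiftRight lgT (Nat.mul 3 p)) 7

/-- `p + 1` without its highest bit -/
def rmp (p : ℕ) : ℕ := Nat.land (Nat.shiftRight rmT (Nat.mul 8 p)) 255

theorem lg_spec : ∀ p, p < 255 → lgp p = (p + 1).log2 ∧ rmp p = (p + 1) ^^^ 2 ^ (p + 1).log2 := by decide +kernel

theorem mk_spec : ∀ b, b < 256 → b ≤ gt 8 mkT b ∧ ∃ j, j < 9 ∧ gt 8 mkT b = 2 ^ j - 1 := by decide +kernel

noncomputable def lgB (l : ℕ) : ℕ :=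
  Bool.rec (motive := fun _ => ℕ) (Bool.rec (motive := fun _ => ℕ) (Nat.log2 l)
    (Nat.add 8 (lgp (Nat.pred (Nat.shiftRight l 8)))) (Nat.blt l 65536)) (lgp (Nat.pred l)) (Nat.blt l 256)

theorem lgp_pred {l : ℕ} (h : l < 256) : lgp (Nat.pred l) = l.log2 := by
  cases l with
  | zero => decide +kernel
  | succ p => exact (lg_spec p (by omega)).1

theorem lgB_eq (l : ℕ) : lgB l = l.log2 := by
  unfold lgB
  cases h1 : Nat.blt l 256
  · cases h2 : Nat.blt l 65536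
    · rfl
    · have h3 := blt_lt h2
      have h4 : ¬ l < 256 := fun h => by rw [Eq.mpr Nat.blt_eq h] at h1; cases h1
      have h5 : Nat.shiftRight l 8 = l / 256 := Nat.shiftRight_eq_div_pow l 8
      show 8 + lgp (Nat.pred (Nat.shiftRight l 8)) = _
      rw [h5, lgp_pred (by omega)]
      have h6 := Nat.log2_self_le (show l / 256 ≠ 0 by omega)
      have h7 := @Nat.lt_log2_self (l / 256)
      refine ((Nat.log2_eq_iff (by omega)).2 ⟨?_, ?_⟩).symm
      · rw [pow_add]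
        omega
      · rw [Nat.add_assoc, pow_add]
        omega
  · exact lgp_pred (blt_lt h1)

noncomputable def xsF (f : ℕ → ℕ) (k : ℕ) : ℕ → ℕ :=
  Nat.rec (fun _ => 0) (fun _ ih l => Bool.rec
    (frc (lgB l) fun i => Nat.xor (f i) (ih (Nat.xor l (Nat.shiftLeft 1 i)))) 0 (Nat.beq l 0)) k

theorem xsF_eq (f : ℕ → ℕ) : ∀ k l, xsF f k l = xsum f k l
  | 0, _ => rfl
  | k + 1, l => by
    have h1 : xsF f (k + 1) l = Bool.rec (motive := fun _ => ℕ) (frc (lgB l) fun i =>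
      Nat.xor (f i) (xsF f k (Nat.xor l (Nat.shiftLeft 1 i)))) 0 (Nat.beq l 0) := rfl
    have h2 : xsum f (k + 1) l = Bool.rec (motive := fun _ => ℕ) (frc (Nat.log2 l) fun i =>
      Nat.xor (f i) (frc (Nat.xor l (Nat.shiftLeft 1 i)) (xsum f k))) 0 (Nat.beq l 0) := rfl
    rw [h1, h2, frc_eq, frc_eq, frc_eq, lgB_eq, xsF_eq f k]

noncomputable def rowsF (r w : ℕ) (L : List ℕ) : ℕ → ℕ :=
  List.rec (fun R => R) (fun s _ ih R =>
    frc (Nat.xor R (Nat.shiftLeft (xsF (gt w R) r (shL r s)) (Nat.mul w (shJ r s)))) ih) L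

theorem rowsF_eq (r w : ℕ) : ∀ L R, rowsF r w L R = rows r w L R
  | [], _ => rfl
  | s :: L, R => by
    have h1 : rowsF r w (s :: L) R = frc (Nat.xor R (Nat.shiftLeft (xsF (gt w R) r (shL r s)) (Nat.mul w (shJ r s))))
      (rowsF r w L) := rfl
    have h2 : rows r w (s :: L) R = frc (Nat.xor R (Nat.shiftLeft (xsum (gt w R) r (shL r s)) (Nat.mul w (shJ r s))))
      (rows r w L) := rfl
    rw [h1, h2, frc_eq, frc_eq, xsF_eq, rowsF_eq r w L]

noncomputable def shF (r s : ℕ) : ℕ :=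
  frc (xsF (cm r) r (shL r s)) fun L => Nat.xor L (Nat.land L (cm r (shJ r s)))

noncomputable def prF (r : ℕ) (L : List ℕ) : List (ℕ × ℕ) :=
  List.rec [] (fun s _ ih => (shF r s, Nat.pow 2 (shJ r s)) :: ih) L

noncomputable def cvF (r : ℕ) (gens : List (List ℕ)) (sch : List ℕ) (X : ℕ) : Bool :=
  Nat.beq (Nat.succ (grow (gens.map (prF r)) sch X)) (Nat.pow 2 (Nat.pow 2 r))

theorem cvF_eq (r : ℕ) (gens : List (List ℕ)) (sch : List ℕ) (X : ℕ) : cvF r gens sch X = cover r gens sch X := by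
  have h1 : ∀ s, shF r s = shK r s := fun s => by
    unfold shF
    rw [xsF_eq]
    rfl
  have h2 : prF r = prep r := funext fun L => by
    unfold prF
    simp only [h1]
    rfl
  unfold cvF
  rw [h2]
  rfl

noncomputable def f1 (m : ℕ → ℕ → ℕ) (Y : ℕ → ℕ) (A l : ℕ) : ℕ := Nat.rec A (fun p _ => m A (Y (lgp p))) l

noncomputable def f2 (m : ℕ → ℕ → ℕ) (Y : ℕ → ℕ) (A l : ℕ) : ℕ :=
  Nat.rec A (fun p _ => f1 m Y (m A (Y (lgp p))) (rmp p)) l

noncomputable def f3 (m : ℕ → ℕ → ℕ) (Y : ℕ → ℕ) (A l : ℕ) : ℕ :=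
  Nat.rec A (fun p _ => f2 m Y (m A (Y (lgp p))) (rmp p)) l

noncomputable def f4 (m : ℕ → ℕ → ℕ) (Y : ℕ → ℕ) (A l : ℕ) : ℕ :=
  Nat.rec A (fun p _ => f3 m Y (m A (Y (lgp p))) (rmp p)) l

noncomputable def f5 (m : ℕ → ℕ → ℕ) (Y : ℕ → ℕ) (A l : ℕ) : ℕ :=
  Nat.rec A (fun p _ => f4 m Y (m A (Y (lgp p))) (rmp p)) l

noncomputable def f6 (m : ℕ → ℕ → ℕ) (Y : ℕ → ℕ) (A l : ℕ) : ℕ :=
  Nat.rec A (fun p _ => f5 m Y (m A (Y (lgp p))) (rmp p)) l

noncomputable def f7 (m : ℕ → ℕ → ℕ) (Y : ℕ → ℕ) (A l : ℕ) : ℕ :=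
  Nat.rec A (fun p _ => f6 m Y (m A (Y (lgp p))) (rmp p)) l

theorem fs_eq {m : ℕ → ℕ → ℕ} {Y : ℕ → ℕ} {f : ℕ → ℕ → ℕ} {k : ℕ} (h : ∀ A l, l < 256 → f A l = fold m Y k A l)
    (A l : ℕ) (hl : l < 256) :
    Nat.rec (motive := fun _ => ℕ) A (fun p _ => f (m A (Y (lgp p))) (rmp p)) l = fold m Y (k + 1) A l := by
  rw [fold_succ]
  cases l with
  | zero => rfl
  | succ p =>
    obtain ⟨h1, h2⟩ := lg_spec p (by omega)
    rw [if_neg (Nat.succ_ne_zero p), ← h2, ← h1]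
    exact h _ _ (Nat.lt_succ_of_le Nat.and_le_right)

theorem f7_eq (m : ℕ → ℕ → ℕ) (Y : ℕ → ℕ) : ∀ A l, l < 256 → f7 m Y A l = fold m Y 7 A l :=
  fs_eq (f := f6 m Y) <| fs_eq (f := f5 m Y) <| fs_eq (f := f4 m Y) <| fs_eq (f := f3 m Y) <| fs_eq (f := f2 m Y) <|
    fs_eq (f := f1 m Y) <| fs_eq (f := fun A _ => A) fun _ _ _ => rfl

/-! ### products from rows -/

def rw0 (W M a : ℕ) : ℕ := Nat.land (Nat.shiftRight M (Nat.mul W a)) (mk1 W)

/-- a row of level `8` -/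
noncomputable def rw8 (r w W M O H Φ p a : ℕ) : ℕ :=
  Bool.rec (motive := fun _ => ℕ) (lf1 r w W M O H Φ p (Nat.sub a 128)) (lf0 r w W M O H Φ a) (Nat.blt a 128)

/-- the product; the rows are shared -/
noncomputable def mr (row : ℕ → ℕ) (r w A B : ℕ) : ℕ :=
  Nat.xor (Nat.land (Nat.shiftRight (frc (Nat.shiftRight A r) row) (Nat.mul w (Nat.shiftRight B r))) (mk1 w))
    (Nat.land (Nat.xor A B) (mk1 r))

theorem mr_eq (row : ℕ → ℕ) (r w A B : ℕ) : mr row r w A B = gt w (row (A >>> r)) (B >>> r) ^^^ low r (A ^^^ B) := by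
  unfold mr
  rw [frc_eq]
  rfl

/-! ### products without a table -/

noncomputable def fw (m : ℕ → ℕ → ℕ) (Y : ℕ → ℕ) (r X A : ℕ) : ℕ :=
  Nat.xor (f7 m Y X (Nat.shiftRight A r)) (Nat.land A (mk1 r))

noncomputable def cjf (m : ℕ → ℕ → ℕ) (Y : ℕ → ℕ) (r A : ℕ) : ℕ :=
  Nat.rec A (fun p _ => Nat.xor (f7 m Y (Y (lgp p)) (rmp p)) (Nat.land A (mk1 r))) (Nat.shiftRight A r)

/-- the case of a product in normal form first -/
noncomputable def mq (m : ℕ → ℕ → ℕ) (r A B : ℕ) : ℕ :=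
  Bool.rec (motive := fun _ => ℕ) (m A B) (Nat.xor A B)
    (Nat.beq (Nat.land (Nat.shiftRight A r) (Nat.shiftRight mkT (Nat.mul 8 (Nat.shiftRight B r)))) 0)

/-- one level above `m` -/
noncomputable def uq (m : ℕ → ℕ → ℕ) (Y : ℕ → ℕ) (r p H A B : ℕ) : ℕ :=
  Bool.rec (motive := fun _ => ℕ)
    (Bool.rec (motive := fun _ => ℕ) (m A B) (Nat.xor (m (Nat.xor A H) B) H) (Nat.ble H A))
    (Bool.rec (motive := fun _ => ℕ) (Nat.xor (mq m r (cjf (mq m r) Y r A) (Nat.xor B H)) H)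
      (mq m r (mq m r p (cjf (mq m r) Y r (Nat.xor A H))) (Nat.xor B H)) (Nat.ble H A))
    (Nat.ble H B)

/-- the multiplication of level `7` without a table -/
noncomputable def ch7 (R : ℕ → ℕ → ℕ) (r : ℕ) : ℕ → ℕ → ℕ :=
  uq (uq (uq (uq (uq (uq (uq Nat.xor (R 0) r (R 0 0) (Nat.pow 2 (Nat.add r 0))) (R 1) r (R 1 1) (Nat.pow 2
    (Nat.add r 1))) (R 2) r (R 2 2) (Nat.pow 2 (Nat.add r 2))) (R 3) r (R 3 3) (Nat.pow 2 (Nat.add r 3))) (R 4) r (R
    4 4) (Nat.pow 2 (Nat.add r 4))) (R 5) r (R 5 5) (Nat.pow 2 (Nat.add r 5))) (R 6) r (R 6 6) (Nat.pow 2 (Nat.add r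
    6))

noncomputable def ch8 (R : ℕ → ℕ → ℕ) (r : ℕ) : ℕ → ℕ → ℕ :=
  mq (uq (ch7 R r) (R 7) r (R 7 7) (Nat.pow 2 (Nat.add r 7))) r

section
variable {G : Type*} [Group G] {r n : ℕ} {R : ℕ → ℕ → ℕ} {e : ℕ → G}

theorem xor_top_lt {A N : ℕ} (h1 : 2 ^ N ≤ A) (h2 : A < 2 ^ (N + 1)) : A ^^^ 2 ^ N < 2 ^ N := by
  obtain ⟨d, rfl⟩ := Nat.exists_eq_add_of_le h1
  have hd : d < 2 ^ N := by rw [pow_succ] at h2; omega
  rwa [Pc.two_pow_add_eq_xor hd, Nat.xor_assoc, Nat.xor_self, Nat.xor_zero]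

/-- `row` gives the rows of level `k` -/
def RowOK (r w k : ℕ) (row : ℕ → ℕ) (e : ℕ → G) : Prop := ∀ a, a < 2 ^ k → ∀ b, b < 2 ^ k →
  gt w (row a) b < 2 ^ (r + k) ∧ e (a <<< r) * e (b <<< r) = e (gt w (row a) b)

theorem mr_spec (h : Ev r n R e) {w k : ℕ} {row : ℕ → ℕ} (hM : RowOK r w k row e) : Mu (r + k) e (mr row r w) := by
  intro A hA B hB
  obtain ⟨h1, h2⟩ := hM _ (shiftRight_lt hA) _ (shiftRight_lt hB)
  rw [mr_eq]
  refine ⟨Nat.xor_lt_two_pow h1 ((low_lt r _).trans_le (pow_le_pow_add r k)), ?_⟩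
  rw [h.tail _ (low_lt r _), ← h2, low_xor, h.tail _ (low_lt r B), h.split A, h.split B, mul_assoc, mul_assoc,
    ← mul_assoc (e (low r A)), h.cen _ (low_lt r A), mul_assoc]

theorem rw8_spec (h : Ev r 8 R e) {w : ℕ} (hw : r + 8 ≤ w) : RowOK r w 8 (rw8 r w (w * 2 ^ 7) (tab r w R 7) (ones w 7)
    (2 ^ (r + 7) * ones w 7) (phi r w (w * 2 ^ 7) (tab r w R 7) (R 7) 7) (R 7 7)) e := by
  have hk : 7 < 8 := by norm_num
  have hM := h.tabOK hw 7 hk.le
  have hle : 2 ^ (r + 7) < 2 ^ (r + 8) := Nat.pow_lt_pow_right (by norm_num) (by omega)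
  obtain ⟨-, hΦ⟩ := h.phi_spec hk (show r + 7 ≤ w by omega) hM 7 le_rfl
  obtain ⟨hH, hH'⟩ := ones_spec (w := w) (t := 2 ^ (r + 7)) (Nat.pow_lt_pow_right (by norm_num) (by omega)) 7
  generalize tab r w R 7 = M at hM hΦ ⊢
  generalize phi r w (w * 2 ^ 7) M (R 7) 7 = Φ at hΦ ⊢
  have hr := fun {A : ℕ} (hA : A < 2 ^ (r + 7)) => h.rowf_spec (show r + 7 ≤ w by omega) hM hA
  have hp := fun a (ha : a < 2 ^ 7) => h.mul_spec hM (h.bd 7 hk 7 le_rfl) (hΦ a ha).1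
  intro a ha b hb
  unfold rw8
  cases h0 : Nat.blt a 128
  · have ha' : ¬ a < 128 := fun h1 => by rw [Eq.mpr Nat.blt_eq h1] at h0; cases h0
    obtain ⟨c, rfl⟩ : ∃ d, a = 2 ^ 7 + d := ⟨a - 2 ^ 7, by omega⟩
    have hc : c < 2 ^ 7 := by omega
    have h1 : lf1 r w (w * 2 ^ 7) M (ones w 7) (2 ^ (r + 7) * ones w 7) Φ (R 7 7) (Nat.sub (2 ^ 7 + c) 128) =
        (gt (w * 2 ^ 7) M c ^^^ 2 ^ (r + 7) * ones w 7) + (rowf r (w * 2 ^ 7) M (ones w 7)
          (mul r w (w * 2 ^ 7) M (R 7 7) (gt w Φ c))) <<< (w * 2 ^ 7) := by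
      rw [show Nat.sub (2 ^ 7 + c) 128 = c from Nat.add_sub_cancel_left _ _, ← rwf_eq, ← mlt_eq]
      rfl
    erw [h1]
    rw [gt_cat (Nat.xor_lt_two_pow (gt_lt _ _ _) hH)]
    by_cases hb' : b < 2 ^ 7
    · rw [if_pos hb', gt_xor, hH' b hb']
      refine ⟨Nat.xor_lt_two_pow ((hM c hc b hb').1.trans hle) hle, ?_⟩
      rw [h.top 7 hk _ (hM c hc b hb').1, ← (hM c hc b hb').2, h.top' hk hc, mul_assoc]
    · obtain ⟨d, rfl⟩ : ∃ d, b = 2 ^ 7 + d := ⟨b - 2 ^ 7, by omega⟩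
      have hd : d < 2 ^ 7 := by omega
      obtain ⟨h6, h7⟩ := (hr (hp c hc).1).2 d hd
      rw [if_neg hb', Nat.add_sub_cancel_left]
      refine ⟨h6.trans hle, ?_⟩
      rw [← h7, ← (hp c hc).2, ← h.pw 7 hk, h.top' hk hc, h.top' hk hd, mul_assoc, ← mul_assoc (e (c <<< r)),
        (hΦ c hc).2]
      simp only [mul_assoc]
  · have ha' : a < 2 ^ 7 := blt_lt h0
    have h1 : lf0 r w (w * 2 ^ 7) M (ones w 7) (2 ^ (r + 7) * ones w 7) Φ a = gt (w * 2 ^ 7) M a +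
        (rowf r (w * 2 ^ 7) M (ones w 7) (gt w Φ a) ^^^ 2 ^ (r + 7) * ones w 7) <<< (w * 2 ^ 7) := by
      rw [← rwf_eq]
      rfl
    erw [h1]
    rw [gt_cat (gt_lt _ _ _)]
    by_cases hb' : b < 2 ^ 7
    · rw [if_pos hb']
      exact ⟨(hM a ha' b hb').1.trans hle, (hM a ha' b hb').2⟩
    · obtain ⟨d, rfl⟩ : ∃ d, b = 2 ^ 7 + d := ⟨b - 2 ^ 7, by omega⟩
      have hd : d < 2 ^ 7 := by omega
      obtain ⟨h6, h7⟩ := (hr (hΦ a ha').1).2 d hd
      rw [if_neg hb', Nat.add_sub_cancel_left, gt_xor, hH' d hd]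
      refine ⟨Nat.xor_lt_two_pow (h6.trans hle) hle, ?_⟩
      rw [h.top 7 hk _ h6, ← h7, h.top' hk hd, ← mul_assoc, (hΦ a ha').2, mul_assoc]

theorem ev_top (h : Ev r n R e) {l k : ℕ} (h0 : l ≠ 0) (hl : l < 2 ^ k) (hk : k ≤ n) :
    l.log2 < k ∧ l ^^^ 2 ^ l.log2 < 2 ^ l.log2 ∧ e (l <<< r) = e (2 ^ (r + l.log2)) * e ((l ^^^ 2 ^ l.log2) <<< r) := by
  have h1 := (Nat.log2_lt h0).2 hl
  have h2 := (xor_log2_lt h0 (hl.trans (Nat.pow_lt_pow_right (by norm_num) (Nat.lt_succ_self k)))).1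
  refine ⟨h1, h2, ?_⟩
  rw [← h.top' (h1.trans_le hk) h2, Pc.two_pow_add_eq_xor h2, Nat.xor_assoc, Nat.xor_self, Nat.xor_zero]

theorem fold_cj (h : Ev r n R e) {k N : ℕ} (hk : k < n) (hN : r + k ≤ N) {m : ℕ → ℕ → ℕ} (hm : Mu N e m) (g' : G) :
    ∀ (f l X : ℕ) (g : G), l < 2 ^ f → l < 2 ^ k → X < 2 ^ N → g * e (2 ^ (r + k)) = g' * e X →
      fold m (R k) f X l < 2 ^ N ∧ g * e (l <<< r) * e (2 ^ (r + k)) = g' * e (fold m (R k) f X l)
  | 0, l, X, g, h1, _, h3, h4 => by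
    obtain rfl : l = 0 := by simpa using h1
    rw [Nat.zero_shiftLeft, h.zero, mul_one]
    exact ⟨h3, h4⟩
  | f + 1, l, X, g, h1, h2, h3, h4 => by
    rw [fold_succ]
    by_cases h0 : l = 0
    · rw [if_pos h0, h0, Nat.zero_shiftLeft, h.zero, mul_one]
      exact ⟨h3, h4⟩
    · obtain ⟨h5, h6, h7⟩ := ev_top h h0 h2 hk.le
      obtain ⟨h8, h9⟩ := hm X h3 _ ((h.bd k hk _ h5.le).trans_le (Nat.pow_le_pow_right (by norm_num) hN))
      rw [if_neg h0, h7, ← mul_assoc]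
      refine fold_cj h hk hN hm g' f _ _ _ (h6.trans_le (Nat.pow_le_pow_right (by norm_num) (xor_log2_lt h0 h1).2))
        (h6.trans (Nat.pow_lt_pow_right (by norm_num) h5)) h8 ?_
      rw [mul_assoc, h.cj k hk _ h5, ← mul_assoc, h4, mul_assoc, h9]

theorem fw_spec (h : Ev r n R e) {k N : ℕ} (hk : k < n) (h7 : k ≤ 7) (hN : r + k ≤ N) {m : ℕ → ℕ → ℕ} (hm : Mu N e m)
    {g g' : G} {X A : ℕ} (hX : X < 2 ^ N) (hA : A < 2 ^ (r + k)) (hg : g * e (2 ^ (r + k)) = g' * e X) :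
    g * e A * e (2 ^ (r + k)) = g' * e (fw m (R k) r X A) := by
  have h1 := shiftRight_lt hA
  have h2 : A >>> r < 2 ^ 7 := h1.trans_le (Nat.pow_le_pow_right (by norm_num) h7)
  have h3 : fw m (R k) r X A = fold m (R k) 7 X (A >>> r) ^^^ low r A := by
    rw [← f7_eq _ _ _ _ (by omega)]
    rfl
  rw [h3, h.tail _ (low_lt r A), ← mul_assoc, ← (fold_cj h hk hN hm g' 7 _ X g h2 h1 hX hg).2, h.split A, ← mul_assoc,
    mul_assoc _ (e (low r A)), h.cen _ (low_lt r A), ← mul_assoc]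

theorem cjf_spec (h : Ev r n R e) {k N : ℕ} (hk : k < n) (h7 : k ≤ 7) (hN : r + k ≤ N) {m : ℕ → ℕ → ℕ} (hm : Mu N e m)
    {A : ℕ} (hA : A < 2 ^ (r + k)) :
    cjf m (R k) r A < 2 ^ N ∧ e A * e (2 ^ (r + k)) = e (2 ^ (r + k)) * e (cjf m (R k) r A) := by
  have h1 := shiftRight_lt hA
  have h0 : 2 ^ (r + k) ≤ 2 ^ N := Nat.pow_le_pow_right (by norm_num) hN
  have h2 : 2 ^ k ≤ 2 ^ 7 := Nat.pow_le_pow_right (by norm_num) h7
  have h3 := h.split A
  unfold cjf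
  rw [show Nat.shiftRight A r = A >>> r from rfl]
  cases h4 : A >>> r with
  | zero =>
    rw [h4, Nat.zero_shiftLeft, h.zero, one_mul] at h3
    exact ⟨hA.trans_le h0, by rw [show e (Nat.rec A _ 0) = e A from rfl, h3, h.cen _ (low_lt r A)]⟩
  | succ p =>
    rw [h4] at h1 h3
    obtain ⟨h5, h6⟩ := lg_spec p (by omega)
    obtain ⟨a1, a2, a3⟩ := ev_top h (l := p + 1) (Nat.succ_ne_zero p) h1 hk.le
    have a4 := a2.trans (Nat.pow_lt_pow_right (by norm_num) a1)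
    obtain ⟨a5, a6⟩ := fold_cj h hk hN hm _ 7 _ _ _ (a4.trans_le h2) a4 ((h.bd k hk _ a1.le).trans_le h0) (h.cj k hk _ a1)
    show f7 m (R k) (R k (lgp p)) (rmp p) ^^^ low r A < _ ∧ _ = _ * e (f7 m (R k) (R k (lgp p)) (rmp p) ^^^ low r A)
    rw [h5, h6, f7_eq _ _ _ _ (by omega)]
    refine ⟨Nat.xor_lt_two_pow a5 ((low_lt r A).trans_le ((pow_le_pow_add r k).trans h0)), ?_⟩
    rw [h.tail _ (low_lt r A), ← mul_assoc, ← a6, ← a3, h3, mul_assoc, h.cen _ (low_lt r A), ← mul_assoc]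

theorem ev_cat (h : Ev r n R e) {j B : ℕ} (hB : B < 2 ^ (r + j)) : ∀ k A, k ≤ n → A < 2 ^ (r + k) →
    (∀ i, i < j → A.testBit (r + i) = false) → e A * e B = e (A ^^^ B)
  | 0, A, _, hA, _ => by rw [Nat.xor_comm, h.tail A hA, h.cen A hA]
  | k + 1, A, hk, hA, h1 => by
    by_cases h2 : A < 2 ^ (r + k)
    · exact ev_cat h hB k A (by omega) h2 h1
    · have h3 := xor_top_lt (Nat.le_of_not_lt h2) hA
      have h4 : j ≤ k := Nat.le_of_not_lt fun h4 => by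
        have h5 := Nat.testBit_lt_two_pow (Nat.lt_of_lt_of_le h3 le_rfl)
        rw [Nat.testBit_xor, h1 k h4, Nat.testBit_two_pow_self] at h5
        cases h5
      have h5 := ev_cat h hB k _ (by omega) h3 fun i hi => by
        rw [Nat.testBit_xor, h1 i hi, Nat.testBit_two_pow_of_ne (by omega)]
        rfl
      have h6 := h.top k hk _ h3
      have h7 := h.top k hk _ (Nat.xor_lt_two_pow h3 (hB.trans_le (Nat.pow_le_pow_right (by norm_num) (by omega))))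
      rw [Nat.xor_assoc, Nat.xor_self, Nat.xor_zero] at h6
      rw [Nat.xor_assoc, Nat.xor_comm B, ← Nat.xor_assoc, Nat.xor_assoc A, Nat.xor_self, Nat.xor_zero] at h7
      rw [h6, h7, mul_assoc, h5]

theorem mq_spec (h : Ev r n R e) {k : ℕ} (hk : k ≤ n) (h8 : k ≤ 8) {m : ℕ → ℕ → ℕ} (hm : Mu (r + k) e m) :
    Mu (r + k) e (mq m r) := by
  intro A hA B hB
  unfold mq
  cases h1 : Nat.beq (Nat.land (Nat.shiftRight A r) (Nat.shiftRight mkT (Nat.mul 8 (Nat.shiftRight B r)))) 0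
  · exact hm A hA B hB
  · have h2 : A >>> r &&& mkT >>> (8 * B >>> r) = 0 := Nat.eq_of_beq_eq_true h1
    obtain ⟨h3, j, h4, h5⟩ := mk_spec (B >>> r) ((shiftRight_lt hB).trans_le (Nat.pow_le_pow_right (by norm_num) h8))
    refine ⟨Nat.xor_lt_two_pow hA hB, ev_cat h (j := j) ?_ k A hk hA fun i hi => ?_⟩
    · have h6 := Nat.two_pow_pos j
      have h7 : B >>> r < 2 ^ j := by omega
      rw [Nat.shiftRight_eq_div_pow, Nat.div_lt_iff_lt_mul (Nat.two_pow_pos r), ← pow_add, Nat.add_comm] at h7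
      exact h7
    · have h6 := congrArg (fun a => Nat.testBit a i) h2
      have h7 := congrArg (fun a => Nat.testBit a i) h5
      simp only [gt_testBit, Nat.testBit_two_pow_sub_one, decide_eq_true hi, decide_eq_true (show i < 8 by omega),
        Bool.true_and] at h7
      simp only [Nat.testBit_and, Nat.testBit_shiftRight, h7, Bool.and_true, Nat.zero_testBit] at h6
      exact h6

theorem uq_spec (h : Ev r n R e) (k : ℕ) (hk : k < n) (h7 : k ≤ 7) {m : ℕ → ℕ → ℕ} (hm : Mu (r + k) e m) :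
    Mu (r + (k + 1)) e (uq m (R k) r (R k k) (2 ^ (r + k))) := by
  have hle : 2 ^ (r + k) < 2 ^ (r + (k + 1)) := Nat.pow_lt_pow_right (by norm_num) (by omega)
  have hq := mq_spec h hk.le (by omega) hm
  have hc := fun {A : ℕ} (hA : A < 2 ^ (r + k)) => cjf_spec h hk h7 le_rfl hq hA
  have ht : ∀ {A : ℕ}, Nat.ble (2 ^ (r + k)) A = true → A < 2 ^ (r + (k + 1)) →
      A ^^^ 2 ^ (r + k) < 2 ^ (r + k) ∧ e A = e (2 ^ (r + k)) * e (A ^^^ 2 ^ (r + k)) := fun {A} h1 h2 => by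
    have h3 := xor_top_lt (Nat.le_of_ble_eq_true h1) h2
    refine ⟨h3, ?_⟩
    rw [← h.top k hk _ h3, Nat.xor_assoc, Nat.xor_self, Nat.xor_zero]
  have hf : ∀ {A : ℕ}, Nat.ble (2 ^ (r + k)) A = false → A < 2 ^ (r + k) := fun {A} h1 =>
    Nat.lt_of_not_le fun h2 => by rw [Nat.ble_eq_true_of_le h2] at h1; cases h1
  intro A hA B hB
  unfold uq
  cases hb : Nat.ble (2 ^ (r + k)) B <;> cases ha : Nat.ble (2 ^ (r + k)) A
  · exact ⟨(hm _ (hf ha) _ (hf hb)).1.trans hle, (hm _ (hf ha) _ (hf hb)).2⟩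
  · obtain ⟨a1, a2⟩ := ht ha hA
    obtain ⟨c1, c2⟩ := hm _ a1 _ (hf hb)
    refine ⟨Nat.xor_lt_two_pow (c1.trans hle) hle, ?_⟩
    rw [a2, mul_assoc, c2]
    exact (h.top k hk _ c1).symm
  · obtain ⟨b1, b2⟩ := ht hb hB
    obtain ⟨a1, a2⟩ := hc (hf ha)
    obtain ⟨c1, c2⟩ := hq _ a1 _ b1
    refine ⟨Nat.xor_lt_two_pow (c1.trans hle) hle, ?_⟩
    rw [b2, ← mul_assoc, a2, mul_assoc, c2]
    exact (h.top k hk _ c1).symm
  · obtain ⟨b1, b2⟩ := ht hb hB
    obtain ⟨a1, a2⟩ := ht ha hA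
    obtain ⟨a3, a4⟩ := hc a1
    obtain ⟨c1, c2⟩ := hq _ (h.bd k hk k le_rfl) _ a3
    obtain ⟨c3, c4⟩ := hq _ c1 _ b1
    refine ⟨c3.trans hle, ?_⟩
    refine Eq.trans ?_ c4
    rw [← c2, ← h.pw k hk, a2, b2, mul_assoc, ← mul_assoc (e (A ^^^ 2 ^ (r + k))), a4]
    simp only [mul_assoc]

theorem ch7_spec (h : Ev r n R e) (hn : 7 ≤ n) : Mu (r + 7) e (ch7 R r) :=
  uq_spec h 6 (by omega) (by omega) <| uq_spec h 5 (by omega) (by omega) <| uq_spec h 4 (by omega) (by omega) <|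
    uq_spec h 3 (by omega) (by omega) <| uq_spec h 2 (by omega) (by omega) <| uq_spec h 1 (by omega) (by omega) <|
      uq_spec h 0 (by omega) (by omega) fun A hA B hB => ⟨Nat.xor_lt_two_pow hA hB, (h.tail B hB A).symm⟩

theorem ch8_spec (h : Ev r 8 R e) : Mu (r + 8) e (ch8 R r) :=
  mq_spec h le_rfl le_rfl (uq_spec h 7 (by omega) le_rfl (ch7_spec h (by omega)))

end

/-! ### all relations in one number -/

/-- all relations, joined by `op` -/
def fd8 (op fd : ℕ → ℕ → ℕ) (fo : ℕ → ℕ → ℕ → ℕ → ℕ) : ℕ :=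
  op (fd 0 0) (op (fd 1 2) (op (fd 2 5) (op (fd 3 9) (op (fd 4 14) (op (fd 5 20) (op (fd 6 27) (op (fd 7 35) (op
    (fo 1 0 1 1) (op (fo 2 0 1 3) (op (fo 2 1 2 4) (op (fo 3 0 1 6) (op (fo 3 1 2 7) (op (fo 3 2 4 8) (op (fo 4 0 1
    10) (op (fo 4 1 2 11) (op (fo 4 2 4 12) (op (fo 4 3 8 13) (op (fo 5 0 1 15) (op (fo 5 1 2 16) (op (fo 5 2 4 17)
    (op (fo 5 3 8 18) (op (fo 5 4 16 19) (op (fo 6 0 1 21) (op (fo 6 1 2 22) (op (fo 6 2 4 23) (op (fo 6 3 8 24) (op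
    (fo 6 4 16 25) (op (fo 6 5 32 26) (op (fo 7 0 1 28) (op (fo 7 1 2 29) (op (fo 7 2 4 30) (op (fo 7 3 8 31) (op
    (fo 7 4 16 32) (op (fo 7 5 32 33) (op (fo 7 6 64 34) 0)))))))))))))))))))))))))))))))))))

/-- all relations, packed with `32` bits -/
def pk8 (fd : ℕ → ℕ → ℕ) (fo : ℕ → ℕ → ℕ → ℕ → ℕ) : ℕ := fd8 (fun a b => Nat.add a (Nat.shiftLeft b 32)) fd fo

/-- the values of all relations -/
def ls8 (fd : ℕ → ℕ → ℕ) (fo : ℕ → ℕ → ℕ → ℕ → ℕ) : List ℕ :=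
  (List.range 8).map (fun k => fd k (tr k k)) ++
    (List.range 8).flatMap fun k => (List.range k).map fun j => fo k j (2 ^ j) (tr k j)

theorem fd8_eq (op fd : ℕ → ℕ → ℕ) (fo : ℕ → ℕ → ℕ → ℕ → ℕ) : fd8 op fd fo = (ls8 fd fo).foldr op 0 := rfl

theorem pk8_eq (fd : ℕ → ℕ → ℕ) (fo : ℕ → ℕ → ℕ → ℕ → ℕ) :
    pk8 fd fo = (ls8 fd fo).foldr (fun a b => a + b <<< 32) 0 := fd8_eq _ _ _

theorem ls8_length (fd : ℕ → ℕ → ℕ) (fo : ℕ → ℕ → ℕ → ℕ → ℕ) : (ls8 fd fo).length = 36 := rfl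

theorem ls8_forall {fd : ℕ → ℕ → ℕ} {fo : ℕ → ℕ → ℕ → ℕ → ℕ} {p : ℕ → Prop} : (∀ a ∈ ls8 fd fo, p a) ↔
    (∀ k, k < 8 → p (fd k (tr k k))) ∧ ∀ k, k < 8 → ∀ j, j < k → p (fo k j (2 ^ j) (tr k j)) := by
  simp only [ls8, List.mem_append, List.mem_map, List.mem_flatMap, List.mem_range]
  refine ⟨fun h => ⟨fun k hk => h _ (Or.inl ⟨k, hk, rfl⟩), fun k hk j hj => h _ (Or.inr ⟨k, hk, j, hj, rfl⟩)⟩, ?_⟩
  rintro ⟨h1, h2⟩ a (⟨k, hk, rfl⟩ | ⟨k, hk, j, hj, rfl⟩)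
  · exact h1 k hk
  · exact h2 k hk j hj

theorem pack_mem : ∀ {L : List ℕ}, (∀ a ∈ L, a < 2 ^ 32) → ∀ a ∈ L,
    ∃ t, t < L.length ∧ gt 32 (L.foldr (fun a b => a + b <<< 32) 0) t = a
  | [], _, _, h => by cases h
  | b :: L, h, a, ha => by
    have hb : b < 2 ^ (32 * 1) := h b List.mem_cons_self
    rcases List.mem_cons.1 ha with rfl | ha
    · refine ⟨0, Nat.succ_pos _, ?_⟩
      rw [List.foldr_cons]
      exact (gt_cat hb _ 0).trans (by rw [if_pos Nat.one_pos]; exact gt_zero_of_lt hb)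
    · obtain ⟨t, h1, h2⟩ := pack_mem (fun c hc => h c (List.mem_cons_of_mem _ hc)) a ha
      refine ⟨t + 1, Nat.succ_lt_succ h1, ?_⟩
      rw [List.foldr_cons]
      exact (gt_cat hb _ (t + 1)).trans (by rw [if_neg (by omega)]; exact h2)

/-- all relations in their order, joined by `op` -/
def fn8 (op fd : ℕ → ℕ → ℕ) (fo : ℕ → ℕ → ℕ → ℕ → ℕ) : ℕ :=
  op (fd 0 0) (op (fo 1 0 1 1) (op (fd 1 2) (op (fo 2 0 1 3) (op (fo 2 1 2 4) (op (fd 2 5) (op (fo 3 0 1 6) (op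
    (fo 3 1 2 7) (op (fo 3 2 4 8) (op (fd 3 9) (op (fo 4 0 1 10) (op (fo 4 1 2 11) (op (fo 4 2 4 12) (op (fo 4 3 8
    13) (op (fd 4 14) (op (fo 5 0 1 15) (op (fo 5 1 2 16) (op (fo 5 2 4 17) (op (fo 5 3 8 18) (op (fo 5 4 16 19) (op
    (fd 5 20) (op (fo 6 0 1 21) (op (fo 6 1 2 22) (op (fo 6 2 4 23) (op (fo 6 3 8 24) (op (fo 6 4 16 25) (op (fo 6 5
    32 26) (op (fd 6 27) (op (fo 7 0 1 28) (op (fo 7 1 2 29) (op (fo 7 2 4 30) (op (fo 7 3 8 31) (op (fo 7 4 16 32)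
    (op (fo 7 5 32 33) (op (fo 7 6 64 34) (op (fd 7 35) 0)))))))))))))))))))))))))))))))))))

/-- all relations, packed with `44` bits -/
def pk4 (fd : ℕ → ℕ → ℕ) (fo : ℕ → ℕ → ℕ → ℕ → ℕ) : ℕ := fn8 (fun a b => Nat.add a (Nat.shiftLeft b 44)) fd fo

def ln8 (fd : ℕ → ℕ → ℕ) (fo : ℕ → ℕ → ℕ → ℕ → ℕ) : List ℕ :=
  (List.range 8).flatMap fun k => ((List.range k).map fun j => fo k j (2 ^ j) (tr k j)) ++ [fd k (tr k k)]

theorem fn8_eq (op fd : ℕ → ℕ → ℕ) (fo : ℕ → ℕ → ℕ → ℕ → ℕ) : fn8 op fd fo = (ln8 fd fo).foldr op 0 := rfl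

theorem pack_get : ∀ {L : List ℕ}, (∀ a ∈ L, a < 2 ^ 44) → ∀ u,
    gt 44 (L.foldr (fun a b => a + b <<< 44) 0) u = L.getD u 0
  | [], _, u => by rw [List.foldr_nil, gt_eq, Nat.zero_shiftRight]; rfl
  | b :: L, h, u => by
    have hb : b < 2 ^ (44 * 1) := h b List.mem_cons_self
    rw [List.foldr_cons]
    refine (gt_cat hb _ u).trans ?_
    cases u with
    | zero => exact gt_zero_of_lt hb
    | succ u => exact pack_get (fun c hc => h c (List.mem_cons_of_mem _ hc)) u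

theorem pk4_spec {fd : ℕ → ℕ → ℕ} {fo : ℕ → ℕ → ℕ → ℕ → ℕ} (h1 : ∀ k, k < 8 → fd k (tr k k) < 2 ^ 44)
    (h2 : ∀ k, k < 8 → ∀ j, j < k → fo k j (2 ^ j) (tr k j) < 2 ^ 44) {k : ℕ} (hk : k < 8) :
    gt 44 (pk4 fd fo) (tr k k) = fd k (tr k k) ∧ ∀ j, j < k → gt 44 (pk4 fd fo) (tr k j) = fo k j (2 ^ j) (tr k j) := by
  have h3 : ∀ u, gt 44 (pk4 fd fo) u = (ln8 fd fo).getD u 0 := fun u =>
    (congrArg (fun a => gt 44 a u) (fn8_eq _ fd fo)).trans (pack_get (fun a ha => by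
      simp only [ln8, List.mem_append, List.mem_map, List.mem_flatMap, List.mem_range, List.mem_singleton] at ha
      obtain ⟨k, hk, ⟨j, hj, rfl⟩ | rfl⟩ := ha
      · exact h2 k hk j hj
      · exact h1 k hk) u)
  simp only [h3]
  refine ⟨by interval_cases k <;> rfl, fun j hj => ?_⟩
  interval_cases k <;> interval_cases j <;> rfl

def o64 : ℕ := 0x1000000000010000000000100000000001000000000010000000000100000000001000000000010000000000100000000001000000000010000000000100000000001000000000010000000000100000000001000000000010000000000100000000001000000000010000000000100000000001000000000010000000000100000000001000000000010000000000100000000001000000000010000000000100000000001000000000010000000000100000000001000000000010000000000100000000001000000000010000000000100000000001000000000010000000000100000000001000000000010000000000100000000001000000000010000000000100000000001000000000010000000000100000000001000000000010000000000100000000001000000000010000000000100000000001000000000010000000000100000000001000000000010000000000100000000001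

def i36 : ℕ := 0x8000000000040000000000200000000001000000000008000000000040000000000200000000001000000000008000000000040000000000200000000001000000000008000000000040000000000200000000001000000000008000000000040000000000200000000001000000000008000000000040000000000200000000001000000000008000000000040000000000200000000001000000000008000000000040000000000200000000001000000000008000000000040000000000200000000001

def c36 : ℕ := 0x4000000000020000000000100000000000800000000004000000000020000000000100000000000000000000200000000001000000000008000000000040000000000200000000001000000000000000000001000000000008000000000040000000000200000000001000000000000000000000800000000004000000000020000000000100000000000000000000040000000000200000000001000000000000000000000200000000001000000000000000000000100000000000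

theorem gt_big {w M N u : ℕ} (h : M < 2 ^ (w * N)) (hu : N ≤ u) : gt w M u = 0 := by
  rw [gt_eq, Nat.shiftRight_eq_zero _ _ (h.trans_le (Nat.pow_le_pow_right (by norm_num) (Nat.mul_le_mul_left w hu)))]
  rfl

theorem o64_one : ∀ u, u < 64 → gt 44 o64 u = 1 := by decide +kernel

theorem o64_le (u : ℕ) : gt 44 o64 u ≤ 1 := by
  by_cases h : u < 64
  · exact (o64_one u h).le
  · rw [gt_big (N := 64) (by decide +kernel) (by omega)]
    exact Nat.zero_le 1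

theorem i36_spec : ∀ u, u < 36 → gt 44 i36 u = 2 ^ u := by decide +kernel

theorem c36_spec : ∀ k, k < 8 → gt 44 c36 (tr k k) = 0 ∧ ∀ j, j < k → gt 44 c36 (tr k j) = 2 ^ j := by decide +kernel

theorem c36_lt (u : ℕ) : gt 44 c36 u < 2 ^ 8 := by
  by_cases h : u < 36
  · revert u
    decide +kernel
  · rw [gt_big (N := 36) (by decide +kernel) (by omega)]
    norm_num

theorem gt_shift (w M u : ℕ) : gt w (M >>> w) u = gt w M (u + 1) := by
  rw [gt_eq, gt_eq, ← Nat.shiftRight_add, Nat.mul_succ, Nat.add_comm]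

theorem gt_mul {w a : ℕ} : ∀ u M, (∀ v, gt w M v * a < 2 ^ w) → gt w (M * a) u = gt w M u * a := by
  intro u
  have h1 : ∀ M, M * a = gt w M 0 * a + (M >>> w * a) <<< (w * 1) := fun M => by
    rw [gt_eq, Nat.mul_zero, Nat.shiftRight_zero, Nat.mul_one, Nat.shiftLeft_eq, Nat.shiftRight_eq_div_pow,
      Nat.mul_right_comm, ← Nat.add_mul, Nat.mul_comm (M / 2 ^ w), Nat.mod_add_div]
  induction u with
  | zero => exact fun M h => by rw [h1, gt_cat (by rw [Nat.mul_one]; exact h 0), if_pos Nat.one_pos, gt_zero_of_lt (h 0)]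
  | succ u ih =>
    intro M h
    rw [h1, gt_cat (by rw [Nat.mul_one]; exact h 0), if_neg (by omega), Nat.add_sub_cancel,
      ih _ fun v => by rw [gt_shift]; exact h _, gt_shift]

theorem gt_and (w S T k : ℕ) : gt w (S &&& T) k = gt w S k &&& gt w T k := by
  apply Nat.eq_of_testBit_eq
  intro i
  simp only [Nat.testBit_and, gt_testBit]
  cases decide (i < w) <;> simp

theorem gt_msk (X : ℕ) {a : ℕ} (ha : a < 2 ^ 44) (u : ℕ) :
    gt 44 ((X &&& o64) * a) u = gt 44 (X &&& o64) u * a ∧ gt 44 (X &&& o64) u ≤ 1 := by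
  have h : ∀ v, gt 44 (X &&& o64) v ≤ 1 := fun v => by rw [gt_and]; exact Nat.and_le_right.trans (o64_le v)
  exact ⟨gt_mul u _ fun v => ((Nat.mul_le_mul_right a (h v)).trans_eq (Nat.one_mul a)).trans_lt ha, h u⟩

def rl (r w P k t : ℕ) : ℕ := Nat.land (Nat.shiftRight P (Nat.mul w t)) (mk1 (Nat.add r k))

/-- the relations with entries of `44` bits -/
def pw4 (r w P : ℕ) : ℕ := pk4 (fun k t => rl r w P k t) fun k _ _ t => rl r w P k t

theorem pw4_spec {r : ℕ} (hr : r + 8 ≤ 44) (w P : ℕ) {k j : ℕ} (hk : k < 8) (hj : j ≤ k) :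
    gt 44 (pw4 r w P) (tr k j) = relf r w P k j := by
  have h0 : ∀ k, k < 8 → ∀ t, rl r w P k t < 2 ^ 44 := fun k hk t =>
    (low_lt (r + k) _).trans_le (Nat.pow_le_pow_right (by norm_num) (by omega))
  obtain ⟨h1, h2⟩ := pk4_spec (fd := fun k t => rl r w P k t) (fo := fun k _ _ t => rl r w P k t)
    (fun k hk => h0 k hk _) (fun k hk _ _ => h0 k hk _) hk
  rcases Nat.eq_or_lt_of_le hj with rfl | h3
  · exact h1
  · exact h2 j h3

/-- the relations with one tail each -/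
def rw4 (r X : ℕ) : ℕ := Nat.xor (Nat.mul (Nat.land (Nat.shiftRight X r) (Nat.mul o64 255)) 68719476736) i36

def rr (T k j : ℕ) : ℕ :=
  Nat.land (Nat.shiftRight T (Nat.mul 44 (Nat.add (Nat.div (Nat.mul k (Nat.succ k)) 2) j))) 17592186044415

theorem rw4_spec {r : ℕ} (hr : r + 8 ≤ 44) (w P : ℕ) {k j : ℕ} (hk : k < 8) (hj : j ≤ k) :
    rr (rw4 r (pw4 r w P)) k j = full 36 (topf r w P) k j := by
  have h0 : tr k j < 36 := tr_lt hj hk
  have h1 : ∀ v, gt 44 (o64 * 255) v = gt 44 o64 v * 255 := fun v => gt_mul v _ fun u => by have := o64_le u; omega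
  have h2 := pw4_spec hr w P hk hj
  have h3 : topf r w P k j < 2 ^ 8 :=
    (topf_bd r 8 w P k hk j hj).trans (Nat.pow_lt_pow_right (by norm_num) (by omega))
  show gt 44 ((pw4 r w P >>> r &&& o64 * 255) * 68719476736 ^^^ i36) (tr k j) = topf r w P k j <<< 36 ^^^ 2 ^ tr k j
  generalize pw4 r w P = X at h2 ⊢
  rw [gt_xor, i36_spec _ h0, gt_mul _ _ fun v => by
    have h4 : gt 44 (X >>> r &&& o64 * 255) v ≤ gt 44 o64 v * 255 := by rw [gt_and, h1]; exact Nat.and_le_right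
    have := o64_le v
    omega, gt_and, h1, o64_one _ (by omega), Nat.shiftLeft_eq]
  congr 2
  apply Nat.eq_of_testBit_eq
  intro i
  rw [show 1 * 255 = 2 ^ 8 - 1 from rfl, Nat.testBit_and, Nat.testBit_two_pow_sub_one]
  by_cases h4 : i < 8
  · rw [show topf r w P k j = relf r w P k j >>> r from rfl, ← h2, Nat.testBit_shiftRight, gt_testBit, gt_testBit,
      Nat.testBit_shiftRight, decide_eq_true h4, decide_eq_true (show i < 44 by omega),
      decide_eq_true (show r + i < 44 by omega), Bool.and_true, Nat.add_left_comm]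
  · rw [decide_eq_false h4, Bool.and_false,
      Nat.testBit_lt_two_pow (h3.trans_le (Nat.pow_le_pow_right (by norm_num) (by omega)))]

/-- `D` plus the sums of the `ν i`, `i` a bit of the entry of `X` -/
noncomputable def lin (ν : ℕ → ℕ) (X D N : ℕ) : ℕ :=
  Nat.rec D (fun i E => Nat.xor E (Nat.mul (Nat.land (Nat.shiftRight X i) o64) (ν i))) N

theorem lin_spec {ν : ℕ → ℕ} {s t B : ℕ} (hs : s ≤ 44) (hν : ∀ i, ν i < 2 ^ s) (X D : ℕ) {u : ℕ} (hu : u < 64) :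
    ∀ N, N ≤ 44 → (∀ i, i < N → dot s (ν i) t = B.testBit i) →
      ∃ T, T < 2 ^ s ∧ gt 44 (lin ν X D N) u = gt 44 D u ^^^ T ∧ dot s T t = dot N (gt 44 X u) B
  | 0, _, _ => ⟨0, Nat.two_pow_pos s, (Nat.xor_zero _).symm, dot_zero_left s t⟩
  | N + 1, hN, hB => by
    obtain ⟨T, h1, h2, h3⟩ := lin_spec hs hν X D hu N (by omega) fun i hi => hB i (by omega)
    have h4 : lin ν X D (N + 1) = lin ν X D N ^^^ (X >>> N &&& o64) * ν N := rfl
    have h5 : gt 44 (X >>> N &&& o64) u = ((gt 44 X u).testBit N).toNat := by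
      rw [gt_and, o64_one u hu, Nat.and_one_is_mod, gt_testBit, decide_eq_true (show N < 44 by omega), Bool.true_and,
        Nat.add_comm, ← Nat.testBit_shiftRight, ← Nat.add_zero (44 * u), ← Bool.true_and (Nat.testBit _ _),
        ← show decide (0 < 44) = true from rfl, ← gt_testBit, Nat.toNat_testBit, pow_zero, Nat.div_one]
    rw [h4, gt_xor, h2, (gt_msk _ ((hν N).trans_le (Nat.pow_le_pow_right (by norm_num) hs)) u).1, h5, dot_succ, ← h3,
      ← hB N (by omega), Nat.xor_assoc]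
    cases (gt 44 X u).testBit N
    · exact ⟨T, h1, by simp, by simp⟩
    · exact ⟨T ^^^ ν N, Nat.xor_lt_two_pow h1 (hν N), by simp, by simp [dot_xor_left]⟩

/-- elimination with the first entry -/
def gs1 (D : ℕ) : ℕ := Nat.xor (Nat.shiftRight D 44) (Nat.mul (Nat.land (Nat.div (Nat.shiftRight D 44)
  (Nat.gcd (Nat.land D 17592186044415) 17592186044416)) o64) (Nat.land D 17592186044415))

noncomputable def gs (D k : ℕ) : ℕ := Nat.rec D (fun _ E => gs1 E) k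

noncomputable def pe (f : ℕ → ℕ) (D k : ℕ) : ℕ := Nat.rec D (fun s E => Nat.add (f s) (Nat.shiftLeft E 44)) k

theorem gs1_spec {s t D : ℕ} (h : dot s (gt 44 D 0) t = false) (u : ℕ) :
    dot s (gt 44 (gs1 D) u) t = dot s (gt 44 D (u + 1)) t := by
  obtain ⟨h1, h2⟩ := gt_msk (D >>> 44 / Nat.gcd (gt 44 D 0) 17592186044416) (gt_lt 44 D 0) u
  have h3 : gs1 D = D >>> 44 ^^^ (D >>> 44 / Nat.gcd (gt 44 D 0) 17592186044416 &&& o64) * gt 44 D 0 := rfl
  rw [h3, gt_xor, h1, gt_shift, dot_xor_left]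
  obtain h4 | h4 := Nat.le_one_iff_eq_zero_or_eq_one.1 h2
  · rw [h4, Nat.zero_mul, dot_zero_left, Bool.xor_false]
  · rw [h4, Nat.one_mul, h, Bool.xor_false]

theorem gs_spec {s t D K : ℕ} (h : ∀ u, u < K → dot s (gt 44 D u) t = false) :
    ∀ k, k ≤ K → ∀ u, dot s (gt 44 (gs D k) u) t = dot s (gt 44 D (k + u)) t
  | 0, _, u => by rw [Nat.zero_add]; rfl
  | k + 1, hk, u => by
    rw [show gs D (k + 1) = gs1 (gs D k) from rfl, gs1_spec ((gs_spec h k (by omega) 0).trans (h k hk)),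
      gs_spec h k (by omega), Nat.add_right_comm, Nat.add_assoc]

theorem pe_spec {s t D : ℕ} {f : ℕ → ℕ} (hf : ∀ i, f i < 2 ^ 44 ∧ dot s (f i) t = false) :
    ∀ k, (∀ u, u < k → dot s (gt 44 (pe f D k) u) t = false) ∧ ∀ u, gt 44 (pe f D k) (k + u) = gt 44 D u
  | 0 => ⟨fun u hu => by omega, fun u => by rw [Nat.zero_add]; rfl⟩
  | k + 1 => by
    obtain ⟨h1, h2⟩ := pe_spec (D := D) hf k
    have h3 : ∀ u, gt 44 (pe f D (k + 1)) u = if u < 1 then gt 44 (f k) u else gt 44 (pe f D k) (u - 1) :=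
      gt_cat (N := 1) (hf k).1 _
    refine ⟨fun u hu => ?_, fun u => ?_⟩
    · rw [h3]
      split_ifs with h4
      · rw [show u = 0 by omega, gt_zero_of_lt (hf k).1, (hf k).2]
      · exact h1 _ (by omega)
    · rw [h3, if_neg (by omega), show k + 1 + u - 1 = k + u by omega, h2]

/-! ### the checks -/

noncomputable def eq4 (r d : ℕ) : ℕ := Bool.rec 0 d (Nat.blt d (Nat.pow 2 r))

/-- a consistency equation -/
noncomputable def eqt (m R : ℕ → ℕ → ℕ) (r i j k : ℕ) : ℕ :=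
  Bool.rec (motive := fun _ => ℕ)
    (Bool.rec (motive := fun _ => ℕ) (Nat.xor (cjf m (R j) r (R j j)) (R j j))
      (Nat.xor (cjf m (R k) r (R j j)) (m (R k j) (R k j))) (Nat.blt j k))
    (Bool.rec (motive := fun _ => ℕ) (Nat.xor (fw m (R j) r (R j j) (R j i)) (m (Nat.pow 2 (Nat.add r i)) (R j j)))
      (Nat.xor (fw m (R k) r (R k j) (R j i)) (m (R k i) (R k j))) (Nat.blt j k))
    (Nat.blt i j)

noncomputable def eqc (m R : ℕ → ℕ → ℕ) (r c : ℕ) : ℕ :=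
  eq4 r (eqt m R r (Nat.land c 7) (Nat.land (Nat.shiftRight c 3) 7) (Nat.land (Nat.shiftRight c 6) 7))

/-- from the full presentation to the reduced one; `X` is `pw4 r w P` -/
noncomputable def redF (r X ne tri nu : ℕ) : Bool :=
  frc (rw4 r X) fun T => Nat.beq (gs (pe (fun s => eqc (mq (ch7 (rr T) 36) 36) (rr T) 36
    (Nat.shiftRight tri (Nat.mul 9 s))) (lin (gt 36 nu) (Nat.xor X (Nat.mul c36 (Nat.pow 2 r))) i36 (Nat.add r 8)) ne) ne) 0

def fx (k X : ℕ) : ℕ := Nat.xor X (Nat.shiftRight X k)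

/-- all entries are tails with an even value -/
noncomputable def ck (r c D : ℕ) : Bool :=
  band (Nat.beq (Nat.land D (Nat.mul (Nat.xor (mk1 32) (mk1 r)) (ones 32 6))) 0)
    (Nat.beq (Nat.land (fx 1 (fx 2 (fx 4 (fx 8 (fx 16 (Nat.land D (Nat.mul c (ones 32 6)))))))) (ones 32 6)) 0)

noncomputable def fl1 (m : ℕ → ℕ → ℕ) (Y : ℕ → ℕ) (l : ℕ) : ℕ :=
  Nat.rec 0 (fun p _ => f7 m Y (Y (lgp p)) (rmp p)) l

noncomputable def dg (m : ℕ → ℕ → ℕ) (Y : ℕ → ℕ) (a v : ℕ) : ℕ :=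
  Nat.rec (m a a) (fun p _ => Nat.xor (m a a) (f7 m Y (Y (lgp p)) (rmp p))) v

noncomputable def od (m : ℕ → ℕ → ℕ) (Y : ℕ → ℕ) (q k j e v : ℕ) : ℕ :=
  Nat.rec q (fun p _ => Nat.xor (m (Y j) (Y k)) (Bool.rec (motive := fun _ => ℕ) (f7 m Y (Y k) v)
    (f7 m Y (m (m (Y k) (Y j)) (Y (lgp p))) (rmp p)) (Nat.blt (Nat.succ p) e))) (Nat.xor v e)

def tp (w P k t : ℕ) : ℕ := Nat.land (Nat.shiftRight P (Nat.mul w t)) (mk1 k)

noncomputable def rwy (row : ℕ → ℕ) (r w Y i : ℕ) : ℕ := frc (Nat.shiftRight (gt w Y i) r) row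

def ofy (r w Y i : ℕ) : ℕ := Nat.mul w (Nat.shiftRight (gt w Y i) r)

noncomputable def cm2 (row : ℕ → ℕ) (r w Y k j : ℕ) : ℕ :=
  Nat.land (Nat.xor (Nat.shiftRight (rwy row r w Y j) (ofy r w Y k)) (Nat.shiftRight (rwy row r w Y k) (ofy r w Y j)))
    (mk1 w)

noncomputable def hm1 (row : ℕ → ℕ) (r w Y w' P : ℕ) : ℕ :=
  pk8 (fun k t => dg (mr row r w) (gt w Y) (gt w Y k) (tp w' P k t))
    (fun k j e t => od (mr row r w) (gt w Y) (cm2 row r w Y k j) k j e (tp w' P k t))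

noncomputable def hm4 (row : ℕ → ℕ) (r w Y w' P : ℕ) : ℕ :=
  pk4 (fun k t => dg (mr row r w) (gt w Y) (gt w Y k) (tp w' P k t))
    (fun k j e t => od (mr row r w) (gt w Y) (cm2 row r w Y k j) k j e (tp w' P k t))

noncomputable def iv1 (m : ℕ → ℕ → ℕ) (Y : ℕ → ℕ) (r I k : ℕ) : ℕ :=
  Nat.xor (fl1 m Y (Nat.land (Nat.shiftRight I (Nat.mul 8 k)) 255)) (Nat.pow 2 (Nat.add r k))

noncomputable def iv7 (m : ℕ → ℕ → ℕ) (Y : ℕ → ℕ) (r I : ℕ) : ℕ :=
  Nat.lor (iv1 m Y r I 0) (Nat.lor (iv1 m Y r I 1) (Nat.lor (iv1 m Y r I 2) (Nat.lor (iv1 m Y r I 3)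
    (Nat.lor (iv1 m Y r I 4) (Nat.lor (iv1 m Y r I 5) (iv1 m Y r I 6))))))

noncomputable def iv8 (m : ℕ → ℕ → ℕ) (Y : ℕ → ℕ) (r I : ℕ) : ℕ := Nat.lor (iv7 m Y r I) (iv1 m Y r I 7)

def slL {α : Type} (_s : ℕ) (t : List α) : List α := t

noncomputable def dr {α : Type} (s : ℕ) (L : List α) (k : ℕ) : List α :=
  Nat.rec L (fun _ l => List.rec [] (fun _ t _ => slL s t) l) k

/-- eight members less -/
noncomputable def d8 {α : Type} (s : ℕ) (t : List α) : List α :=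
  List.rec [] (fun _ t _ => List.rec [] (fun _ t _ => List.rec [] (fun _ t _ => List.rec [] (fun _ t _ =>
    List.rec [] (fun _ t _ => List.rec [] (fun _ t _ => List.rec [] (fun _ t _ => List.rec [] (fun _ t _ =>
      slL s t) t) t) t) t) t) t) t) t

noncomputable def dr8 {α : Type} (s : ℕ) (L : List α) (k : ℕ) : List α := Nat.rec L (fun _ l => d8 s l) k

noncomputable def lk2 (p : Base → Bool) (LL : List (List Base)) (ix : ℕ) : Bool :=
  frc (Nat.shiftRight ix 6) fun i => List.rec false (fun a _ _ => List.rec false (fun T _ _ => p T)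
    (frc (Nat.land (Nat.shiftRight ix 3) 7) fun q => dr i (dr8 i a q) (Nat.land ix 7)))
    (frc (Nat.shiftRight i 3) fun q => dr 0 (dr8 0 LL q) (Nat.land i 7))

noncomputable def odd1 (r c d : ℕ) : Bool :=
  band (Nat.blt d (Nat.pow 2 r)) (Nat.beq (Nat.land (fx 1 (fx 2 (fx 4 (fx 8 (fx 16 (Nat.land d c)))))) 1) 1)

def evn (c d : ℕ) : Bool := Nat.beq (Nat.land (fx 1 (fx 2 (fx 4 (fx 8 (fx 16 (Nat.land d c)))))) 1) 0

noncomputable def ic1 (row : ℕ → ℕ) (r w c : ℕ) (LL : List (List Base)) (ix Y I : ℕ) : Bool :=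
  band (lk2 (fun T => Base.rec (motive := fun _ => Bool) (fun r' w' P' _ _ =>
      ck r c (hm1 row r w Y w' (Nat.shiftRight (sl c P') r'))) T) LL ix)
    (band (Nat.blt (iv7 (mr row r w) (gt w Y) r I) (Nat.pow 2 r)) (odd1 r c (fl1 (mr row r w) (gt w Y) (gt 8 I 7))))

noncomputable def au1 (row : ℕ → ℕ) (r v w Q X : ℕ) (au : List Au) : Bool :=
  allL (fun a => Au.rec (motive := fun _ => Bool) (fun Y I sh => frc (Nat.mod Y 2305843009213693951) fun s =>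
    frc (rowsF r r sh (idm r r)) fun μ => band (Nat.beq (lin (gt r (sl s μ)) X (hm4 row r v (sl s Y) w Q) r) 0)
      (Nat.blt (iv8 (mr row r v) (gt v (sl s Y)) r (sl s I)) (Nat.pow 2 r))) a) au

/-- the automorphisms; `X` is `pw4 r w P` -/
noncomputable def auF (r w P X : ℕ) (au : List Au) : Bool :=
  List.rec true (fun _ _ _ => frc (Nat.add r 8) fun v => frc (Nat.shiftLeft v 7) fun W =>
    frc (tb 0 r v (relf r w P) 7) fun M => frc (ph 0 r v W M (relf r w P 7) 7) fun Φ =>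
      au1 (rw8 r v W M (ones v 7) (Nat.mul (Nat.pow 2 (Nat.add r 7)) (ones v 7)) Φ (relf r w P 7 7)) r v w
        (Nat.shiftRight P r) X au) au

theorem par_add (a X : ℕ) : ∀ b, par (a + b) X = xor (par a X) (par b (X >>> a))
  | 0 => by rw [Nat.add_zero, par_zero_left, Bool.xor_false]
  | b + 1 => by rw [← Nat.add_assoc, par_succ, par_succ, par_add a X b, Nat.testBit_shiftRight, Bool.xor_assoc]

theorem par_fx (a X i : ℕ) : par a (fx a X >>> i) = par (a + a) (X >>> i) := by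
  have h1 : fx a X = X ^^^ X >>> a := rfl
  rw [h1, Nat.shiftRight_xor_distrib, par_xor, par_add, ← Nat.shiftRight_add, ← Nat.shiftRight_add, Nat.add_comm a i]

theorem fx_bit (X i : ℕ) : (fx 1 (fx 2 (fx 4 (fx 8 (fx 16 X))))).testBit i = par 32 (X >>> i) := by
  rw [← par_fx 16, ← par_fx 8, ← par_fx 4, ← par_fx 2, ← par_fx 1, par_succ, par_zero_left, Bool.false_xor,
    Nat.testBit_shiftRight, Nat.add_zero]

theorem par_of_lt {r X : ℕ} (hX : X < 2 ^ r) {n : ℕ} (h : r ≤ n) : par n X = par r X := by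
  obtain ⟨b, rfl⟩ := Nat.exists_eq_add_of_le h
  rw [par_add, Nat.shiftRight_eq_zero X r hX, par_zero, Bool.xor_false]

theorem ck_spec {r c D : ℕ} (h : ck r c D = true) (hr : r ≤ 32) (hc : c < 2 ^ 32) {t : ℕ} (ht : t < 2 ^ 6) :
    gt 32 D t < 2 ^ r ∧ dot r (gt 32 D t) c = false := by
  obtain ⟨h1, h2⟩ := band_spec h
  have h3 : D &&& ((2 ^ 32 - 1) ^^^ (2 ^ r - 1)) * ones 32 6 = 0 := Nat.eq_of_beq_eq_true h1
  have h4 : fx 1 (fx 2 (fx 4 (fx 8 (fx 16 (D &&& c * ones 32 6))))) &&& ones 32 6 = 0 := Nat.eq_of_beq_eq_true h2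
  have h5 : gt 32 D t < 2 ^ r := by
    have h6 := congrArg (fun a => gt 32 a t) h3
    have h7 : 2 ^ r ≤ 2 ^ 32 := Nat.pow_le_pow_right (by norm_num) hr
    have h8 := Nat.two_pow_pos r
    simp only [gt_and] at h6
    rw [(ones_spec (Nat.xor_lt_two_pow (by norm_num) (by omega)) 6).2 t ht] at h6
    refine Nat.lt_pow_two_of_testBit _ fun i hi => ?_
    have h9 := congrArg (fun a => Nat.testBit a i) h6
    simp only [Nat.testBit_and, Nat.testBit_xor, Nat.testBit_two_pow_sub_one, gt_testBit, Nat.zero_testBit] at h9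
    rw [gt_testBit]
    rw [decide_eq_false (show ¬ i < r by omega)] at h9
    revert h9
    cases decide (i < 32) <;> cases D.testBit (32 * t + i) <;> simp
  refine ⟨h5, ?_⟩
  have h6 := congrArg (fun a => Nat.testBit a (32 * t)) h4
  have h7 := congrArg (fun a => Nat.testBit a 0) ((ones_spec (w := 32) (t := 1) (by norm_num) 6).2 t ht)
  simp only [gt_testBit, Nat.one_mul, Nat.add_zero] at h7
  simp only [Nat.testBit_and, fx_bit, Nat.zero_testBit] at h6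
  rw [show (ones 32 6).testBit (32 * t) = true from h7, Bool.and_true,
    show par 32 ((D &&& c * ones 32 6) >>> (32 * t)) = par 32 (gt 32 (D &&& c * ones 32 6) t) from
      par_congr 32 fun i hi => by rw [gt_testBit, decide_eq_true hi, Bool.true_and, Nat.testBit_shiftRight],
    gt_and, (ones_spec hc 6).2 t ht, par_of_lt (Nat.lt_of_le_of_lt Nat.and_le_left h5) hr] at h6
  exact h6

theorem ck_all {r c : ℕ} {fd : ℕ → ℕ → ℕ} {fo : ℕ → ℕ → ℕ → ℕ → ℕ} (h : ck r c (pk8 fd fo) = true) (hr : r ≤ 32)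
    (hc : c < 2 ^ 32) (hb : ∀ a ∈ ls8 fd fo, a < 2 ^ 32) : ∀ a ∈ ls8 fd fo, a < 2 ^ r ∧ dot r a c = false := by
  intro a ha
  obtain ⟨t, h1, h2⟩ := pack_mem hb a ha
  rw [ls8_length] at h1
  rw [← h2, ← pk8_eq]
  exact ck_spec h hr hc (by omega)

theorem odd1_spec {r c d : ℕ} (h : odd1 r c d = true) (hr : r ≤ 32) : d < 2 ^ r ∧ dot r d c = true := by
  obtain ⟨h1, h2⟩ := band_spec h
  have h3 : fx 1 (fx 2 (fx 4 (fx 8 (fx 16 (d &&& c))))) &&& 1 = 1 := Nat.eq_of_beq_eq_true h2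
  have h4 := congrArg (fun a => Nat.testBit a 0) h3
  simp only [Nat.testBit_and, fx_bit, Nat.shiftRight_zero] at h4
  rw [par_of_lt (Nat.lt_of_le_of_lt Nat.and_le_left (blt_lt h1)) hr, show Nat.testBit 1 0 = true from rfl,
    Bool.and_true] at h4
  exact ⟨blt_lt h1, h4⟩

theorem evn_spec {r c d : ℕ} (h : evn c d = true) (hr : r ≤ 32) (hd : d < 2 ^ r) : dot r d c = false := by
  have h3 : fx 1 (fx 2 (fx 4 (fx 8 (fx 16 (d &&& c))))) &&& 1 = 0 := Nat.eq_of_beq_eq_true h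
  have h4 := congrArg (fun a => Nat.testBit a 0) h3
  simp only [Nat.testBit_and, fx_bit, Nat.shiftRight_zero, Nat.zero_testBit] at h4
  rwa [par_of_lt (Nat.lt_of_le_of_lt Nat.and_le_left hd) hr, show Nat.testBit 1 0 = true from rfl, Bool.and_true] at h4

theorem tp_eq (r w P k j : ℕ) : tp w (P >>> r) k (tr k j) = topf r w P k j := by
  apply Nat.eq_of_testBit_eq
  intro i
  show Nat.testBit (((P >>> r) >>> (w * tr k j)) &&& (2 ^ k - 1)) i =
    Nat.testBit (low (r + k) (P >>> (w * tr k j)) >>> r) i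
  rw [Nat.testBit_and, Nat.testBit_two_pow_sub_one, Nat.testBit_shiftRight, Nat.testBit_shiftRight,
    Nat.testBit_shiftRight, low_eq, Nat.testBit_mod_two_pow, Nat.testBit_shiftRight, Bool.and_comm,
    show r + (w * tr k j + i) = w * tr k j + (r + i) by omega]
  simp

theorem cm2_eq (row : ℕ → ℕ) (r w Y k j : ℕ) : cm2 row r w Y k j =
    mr row r w (gt w Y j) (gt w Y k) ^^^ mr row r w (gt w Y k) (gt w Y j) := by
  show (rwy row r w Y j >>> ofy r w Y k ^^^ rwy row r w Y k >>> ofy r w Y j) &&& mk1 w =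
    (rwy row r w Y j >>> ofy r w Y k &&& mk1 w ^^^ (gt w Y j ^^^ gt w Y k) &&& mk1 r) ^^^
      (rwy row r w Y k >>> ofy r w Y j &&& mk1 w ^^^ (gt w Y k ^^^ gt w Y j) &&& mk1 r)
  rw [Nat.and_xor_distrib_right, Nat.xor_comm (gt w Y k), Nat.xor_assoc, Nat.xor_comm (_ &&& mk1 r), Nat.xor_assoc,
    Nat.xor_self, Nat.xor_zero]

theorem dr_mem {α : Type} (s : ℕ) (L : List α) : ∀ k, ∀ a ∈ dr s L k, a ∈ L
  | 0, _, h => h
  | k + 1, a, h => by
    have h1 : dr s L (k + 1) = List.rec [] (fun _ t _ => slL s t) (dr s L k) := rfl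
    have h2 := dr_mem s L k
    rw [h1] at h
    generalize dr s L k = l at h h2
    cases l with
    | nil => cases h
    | cons b t => exact h2 a (List.mem_cons_of_mem _ h)

theorem dr8_mem {α : Type} (s : ℕ) (L : List α) : ∀ k, ∀ a ∈ dr8 s L k, a ∈ L
  | 0, _, h => h
  | k + 1, a, h => by
    have h1 : a ∈ d8 s (dr8 s L k) := h
    refine dr8_mem s L k a ?_
    generalize dr8 s L k = l at h1 ⊢
    rcases l with _ | ⟨_, _ | ⟨_, _ | ⟨_, _ | ⟨_, _ | ⟨_, _ | ⟨_, _ | ⟨_, _ | ⟨_, t⟩⟩⟩⟩⟩⟩⟩⟩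
    iterate 8 exact absurd h1 List.not_mem_nil
    iterate 8 refine List.mem_cons_of_mem _ ?_
    exact h1

theorem lk2_spec {p : Base → Bool} {LL : List (List Base)} {ix : ℕ} (h : lk2 p LL ix = true) :
    ∃ l ∈ LL, ∃ T ∈ l, p T = true := by
  unfold lk2 at h
  simp only [frc_eq] at h
  generalize Nat.shiftRight ix 6 = i at h
  have h1 := fun a ha => dr8_mem 0 LL (Nat.shiftRight i 3) a (dr_mem 0 _ (Nat.land i 7) a ha)
  generalize dr 0 _ _ = L at h h1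
  cases L with
  | nil => cases h
  | cons a _ =>
    have h2 := fun b hb => dr8_mem i a (Nat.land (Nat.shiftRight ix 3) 7) b (dr_mem i _ (Nat.land ix 7) b hb)
    have h3 : List.rec (motive := fun _ => Bool) false (fun T _ _ => p T)
      (dr i (dr8 i a (Nat.land (Nat.shiftRight ix 3) 7)) (Nat.land ix 7)) = true := h
    generalize dr i _ _ = l at h2 h3
    cases l with
    | nil => cases h3
    | cons T _ => exact ⟨a, h1 a List.mem_cons_self, T, h2 T List.mem_cons_self, h3⟩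

section
variable {G : Type*} [Group G] {N : ℕ} {e : ℕ → G} {m : ℕ → ℕ → ℕ} {Y : ℕ → ℕ}

theorem f7_spec (hm : Mu N e m) (hY : ∀ i, Y i < 2 ^ N) {A l : ℕ} (hA : A < 2 ^ N) (hl : l < 2 ^ 7) :
    f7 m Y A l < 2 ^ N ∧ e (f7 m Y A l) = e A * el (fun i => e (Y i)) 8 l := by
  rw [f7_eq _ _ _ _ (by omega)]
  exact fold_spec hm hY 7 A l (by norm_num) hA hl

theorem el_lg (y : ℕ → G) {p : ℕ} (hp : p + 1 < 2 ^ 8) : rmp p < 2 ^ 7 ∧ el y 8 (p + 1) = y (lgp p) * el y 8 (rmp p) := by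
  obtain ⟨h1, h2⟩ := lg_spec p (by omega)
  obtain ⟨h3, h4⟩ := xor_log2_lt (Nat.succ_ne_zero p) hp
  rw [h1, h2, ← el_top' y (Nat.lt_succ_of_le h4) h3, Nat.xor_assoc, Nat.xor_self, Nat.xor_zero]
  exact ⟨h3.trans_le (Nat.pow_le_pow_right (by norm_num) h4), rfl⟩

theorem fl1_spec (hm : Mu N e m) (hY : ∀ i, Y i < 2 ^ N) (e0 : e 0 = 1) : ∀ {l : ℕ}, l < 2 ^ 8 →
    fl1 m Y l < 2 ^ N ∧ e (fl1 m Y l) = el (fun i => e (Y i)) 8 l
  | 0, _ => ⟨Nat.two_pow_pos N, by rw [Pc.el_nil]; exact e0⟩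
  | p + 1, hl => by
    obtain ⟨h1, h2⟩ := el_lg (fun i => e (Y i)) hl
    rw [h2]
    exact f7_spec hm hY (hY _) h1

theorem dg_spec (hm : Mu N e m) (hY : ∀ i, Y i < 2 ^ N) (e0 : e 0 = 1) (a : ℕ) {v : ℕ} (hv : v < 2 ^ 8) :
    ∃ F, F < 2 ^ N ∧ dg m Y a v = m a a ^^^ F ∧ e F = el (fun i => e (Y i)) 8 v := by
  refine ⟨_, (fl1_spec hm hY e0 hv).1, ?_, (fl1_spec hm hY e0 hv).2⟩
  cases v with
  | zero => exact (Nat.xor_zero _).symm
  | succ p => rfl

theorem od_spec (hm : Mu N e m) (hY : ∀ i, Y i < 2 ^ N) (k : ℕ) {j : ℕ} (hj : j < 8) {v : ℕ} (hv : v < 2 ^ 7) :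
    ∃ F, F < 2 ^ N ∧ od m Y (m (Y j) (Y k) ^^^ m (Y k) (Y j)) k j (2 ^ j) v = m (Y j) (Y k) ^^^ F ∧
      e F = e (Y k) * el (fun i => e (Y i)) 8 v := by
  have h0 : v = (v ^^^ 2 ^ j) ^^^ 2 ^ j := by rw [Nat.xor_assoc, Nat.xor_self, Nat.xor_zero]
  obtain ⟨h1, h2⟩ := hm _ (hY k) _ (hY j)
  unfold od
  rw [show Nat.xor v (2 ^ j) = v ^^^ 2 ^ j from rfl]
  cases h3 : v ^^^ 2 ^ j with
  | zero =>
    rw [h0, h3, el_top' (fun i => e (Y i)) hj (Nat.two_pow_pos j), Pc.el_nil, mul_one]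
    exact ⟨_, h1, rfl, h2.symm⟩
  | succ p =>
    cases h4 : Nat.blt (Nat.succ p) (2 ^ j)
    · obtain ⟨h5, h6⟩ := f7_spec hm hY (hY k) hv
      exact ⟨_, h5, congrArg (fun b => m (Y j) (Y k) ^^^ Bool.rec (motive := fun _ => ℕ) _ _ b) h4, h6⟩
    · have h5 : p + 1 < 2 ^ j := blt_lt h4
      obtain ⟨h6, h7⟩ := el_lg (fun i => e (Y i)) (h5.trans (Nat.pow_lt_pow_right (by norm_num) hj))
      obtain ⟨h8, h9⟩ := hm _ h1 _ (hY (lgp p))
      obtain ⟨h10, h11⟩ := f7_spec hm hY h8 h6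
      refine ⟨_, h10, congrArg (fun b => m (Y j) (Y k) ^^^ Bool.rec (motive := fun _ => ℕ) _ _ b) h4, ?_⟩
      rw [h11, ← h9, ← h2, h0, h3, el_top' (fun i => e (Y i)) hj h5, h7, mul_assoc, mul_assoc]

variable {r n c : ℕ} {R : ℕ → ℕ → ℕ} {z : G} {x : ℕ → G}

theorem key (h : Rel r n R c z x) (hb : Bd r n R) {A F T : ℕ} (hT : T < 2 ^ r) (h1 : (A ^^^ F) ^^^ T < 2 ^ r)
    (h2 : dot r ((A ^^^ F) ^^^ T) c = false) : ev r n c z x A = ev r n c z x F * zp z (dot r T c) := by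
  have he := h.toEv hb
  have h3 : A = (F ^^^ T) ^^^ ((A ^^^ F) ^^^ T) := by
    apply Nat.eq_of_testBit_eq
    intro i
    simp only [Nat.testBit_xor]
    cases A.testBit i <;> cases F.testBit i <;> cases T.testBit i <;> rfl
  rw [h3, he.tail _ h1, ev_tail h1, h2, he.tail _ hT, ev_tail hT]
  exact mul_one _

theorem hom8 (h : Rel r n R c z x) (hb : Bd r n R) (hm : Mu (r + n) (ev r n c z x) m) (hY : ∀ i, Y i < 2 ^ (r + n))
    {r' c' : ℕ} {R' : ℕ → ℕ → ℕ} (hb' : Bd r' 8 R')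
    (h1 : ∀ k, k < 8 → ∃ T, T < 2 ^ r ∧ dot r T c = dot r' (R' k k) c' ∧
      (fun d => d < 2 ^ r ∧ dot r d c = false) (dg m Y (Y k) (R' k k >>> r') ^^^ T))
    (h2 : ∀ k, k < 8 → ∀ j, j < k → ∃ T, T < 2 ^ r ∧ dot r T c = dot r' (R' k j) c' ∧
      (fun d => d < 2 ^ r ∧ dot r d c = false)
        (od m Y (m (Y j) (Y k) ^^^ m (Y k) (Y j)) k j (2 ^ j) (R' k j >>> r') ^^^ T)) :
    Rel r' 8 R' c' z (fun i => ev r n c z x (Y i)) := by
  have h5 : ∀ k, k < 8 → ∀ j, j ≤ k → R' k j >>> r' < 2 ^ 7 := fun k hk j hj =>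
    shiftRight_lt ((hb' k hk j hj).trans_le (Nat.pow_le_pow_right (by norm_num) (by omega)))
  refine ⟨h.z2, h.zc, fun k hk => ?_, fun k hk j hj => ?_⟩
  · obtain ⟨F, -, h6, h7⟩ := dg_spec hm hY (h.toEv hb).zero (Y k) ((h5 k hk k le_rfl).trans (by norm_num))
    obtain ⟨T, h3, h4, h8, h9⟩ := h1 k hk
    rw [h6] at h8 h9
    rw [(hm _ (hY k) _ (hY k)).2, key h hb h3 h8 h9, h7, h4]
    rfl
  · obtain ⟨F, -, h6, h7⟩ := od_spec hm hY k (hj.trans hk) (h5 k hk j hj.le)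
    obtain ⟨T, h3, h4, h8, h9⟩ := h2 k hk j hj
    rw [h6] at h8 h9
    rw [(hm _ (hY j) _ (hY k)).2, key h hb h3 h8 h9, h7, h4, mul_assoc]
    rfl

theorem val_lt (hm : Mu N e m) (hY : ∀ i, Y i < 2 ^ N) (e0 : e 0 = 1) (r w P : ℕ) {t : ℕ} (ht : N ≤ t) :
    (∀ k, k < 8 → dg m Y (Y k) (tp w (P >>> r) k (tr k k)) < 2 ^ t) ∧ ∀ k, k < 8 → ∀ j, j < k →
      od m Y (m (Y j) (Y k) ^^^ m (Y k) (Y j)) k j (2 ^ j) (tp w (P >>> r) k (tr k j)) < 2 ^ t := by
  have h0 : 2 ^ N ≤ 2 ^ t := Nat.pow_le_pow_right (by norm_num) ht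
  have h7 : ∀ k, k < 8 → ∀ j, j ≤ k → topf r w P k j < 2 ^ 7 := fun k hk j hj =>
    (topf_bd r 8 w P k hk j hj).trans_le (Nat.pow_le_pow_right (by norm_num) (by omega))
  refine ⟨fun k hk => ?_, fun k hk j hj => ?_⟩
  · obtain ⟨F, h8, h9, -⟩ := dg_spec hm hY e0 (Y k) ((h7 k hk k le_rfl).trans (by norm_num))
    rw [tp_eq, h9]
    exact (Nat.xor_lt_two_pow (hm _ (hY k) _ (hY k)).1 h8).trans_le h0
  · obtain ⟨F, h8, h9, -⟩ := od_spec hm hY k (hj.trans hk) (h7 k hk j hj.le)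
    rw [tp_eq, h9]
    exact (Nat.xor_lt_two_pow (hm _ (hY j) _ (hY k)).1 h8).trans_le h0

theorem iv1_spec (h : Rel r n R c z x) (hb : Bd r n R) (hm : Mu (r + n) (ev r n c z x) m) (hY : ∀ i, Y i < 2 ^ (r + n))
    {I k : ℕ} (hk : k < n) (hi : iv1 m Y r I k < 2 ^ r) {H : Submonoid G} (hz : z ∈ H)
    (hy : ∀ i, i < 8 → ev r n c z x (Y i) ∈ H) : x k ∈ H := by
  have h1 : fl1 m Y (gt 8 I k) ^^^ 2 ^ (r + k) < 2 ^ r := hi
  have h2 := (h.toEv hb).tail _ h1 (fl1 m Y (gt 8 I k))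
  rw [← Nat.xor_assoc, Nat.xor_self, Nat.zero_xor, ev_gen r hk, ev_tail h1,
    (fl1_spec hm hY (h.toEv hb).zero (gt_lt 8 I k)).2] at h2
  rw [h2]
  exact H.mul_mem (el_mem _ 8 hy) (zp_mem hz _)

theorem or_lt {a b t : ℕ} (h : Nat.lor a b < t) : a < t ∧ b < t :=
  ⟨Nat.lt_of_le_of_lt Nat.left_le_or h, Nat.lt_of_le_of_lt Nat.right_le_or h⟩

theorem iv7_lt {I t : ℕ} (h : iv7 m Y r I < t) (k : ℕ) (hk : k < 7) : iv1 m Y r I k < t := by
  obtain ⟨h0, h⟩ := or_lt h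
  obtain ⟨h1, h⟩ := or_lt h
  obtain ⟨h2, h⟩ := or_lt h
  obtain ⟨h3, h⟩ := or_lt h
  obtain ⟨h4, h⟩ := or_lt h
  obtain ⟨h5, h6⟩ := or_lt h
  interval_cases k <;> assumption

theorem gn8 (h : Rel r 8 R c z x) (hb : Bd r 8 R) (hm : Mu (r + 8) (ev r 8 c z x) m) (hY : ∀ i, Y i < 2 ^ (r + 8))
    {I : ℕ} (hi : iv8 m Y r I < 2 ^ r) (hg : Gn 8 z x) : Gn 8 z (fun i => ev r 8 c z x (Y i)) := fun H hz hy =>
  hg H hz fun k hk => iv1_spec h hb hm hY hk (I := I) (by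
    rcases Nat.lt_succ_iff_lt_or_eq.1 hk with h1 | rfl
    · exact iv7_lt (or_lt hi).1 k h1
    · exact (or_lt hi).2) hz hy

theorem ic1_spec (h1 : Rel r 7 R c z x) (hb : Bd r 7 R) (h2 : Gn 7 z x) {row : ℕ → ℕ}
    (hm : Mu (r + 7) (ev r 7 c z x) (mr row r (r + 7))) (hr : r + 7 ≤ 32) (hc : c < 2 ^ r) {LL : List (List Base)}
    {ix Y I : ℕ} (h : ic1 row r (r + 7) c LL ix Y I = true) : ∃ l ∈ LL, ∃ T ∈ l, ∃ y : ℕ → G, P0 8 T y := by
  obtain ⟨h3, h⟩ := band_spec h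
  obtain ⟨h4, h5⟩ := band_spec h
  obtain ⟨l, hl, T, hT, h3⟩ := lk2_spec h3
  obtain ⟨r', w', P', cnt, reps⟩ := T
  have h6 : ck r c (hm1 row r (r + 7) Y w' (P' >>> r')) = true := h3
  have hY := gt_lt (r + 7) Y
  unfold hm1 at h6
  simp only [cm2_eq] at h6
  generalize mr row r (r + 7) = m at hm h4 h5 h6
  generalize gt (r + 7) Y = Y at hY h4 h5 h6
  obtain ⟨h8, h9⟩ := ls8_forall.1 (ck_all h6 (by omega)
    (hc.trans_le (Nat.pow_le_pow_right (by norm_num) (by omega)))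
    (ls8_forall.2 (val_lt hm hY (h1.toEv hb).zero r' w' P' hr)))
  refine ⟨l, hl, _, hT, _, (hom8 h1 hb hm hY (c' := 0) (topf_bd r' 8 w' P')
    (fun k hk => ⟨0, Nat.two_pow_pos r, dot_zero_left r c, ?_⟩)
    fun k hk j hj => ⟨0, Nat.two_pow_pos r, dot_zero_left r c, ?_⟩).one, fun H _ hy => ?_⟩
  · have h10 := h8 k hk
    rw [tp_eq] at h10
    rwa [Nat.xor_zero]
  · have h10 := h9 k hk j hj
    rw [tp_eq] at h10
    rwa [Nat.xor_zero]
  · obtain ⟨h10, h11⟩ := odd1_spec h5 (by omega)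
    have h12 := el_mem (gt 8 I 7) 8 hy
    rw [← (fl1_spec hm hY (h1.toEv hb).zero (gt_lt 8 I 7)).2, ev_tail h10, h11] at h12
    exact h2 H h12 fun k hk => iv1_spec h1 hb hm hY hk (iv7_lt (blt_lt h4) k hk) h12 hy

theorem auF_spec {w P : ℕ} {au : List Au} (hr : 0 < r) (h4 : r + 8 ≤ 44) (h : auF r w P (pw4 r w P) au = true) {a : Au}
    (ha : a ∈ au) (h1 : Rel r 8 (relf r w P) c z x) (h2 : Gn 8 z x) :
    ∃ y, Rel r 8 (relf r w P) (act r a.sh c) z y ∧ Gn 8 z y := by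
  have hb := relf_bd r 8 w P
  have hm := mr_spec (h1.toEv hb) (rw8_spec (h1.toEv hb) le_rfl)
  have h0 : au1 (rw8 r (r + 8) ((r + 8) * 2 ^ 7) (tab r (r + 8) (relf r w P) 7) (ones (r + 8) 7)
      (2 ^ (r + 7) * ones (r + 8) 7) (phi r (r + 8) ((r + 8) * 2 ^ 7) (tab r (r + 8) (relf r w P) 7) (relf r w P 7) 7)
      (relf r w P 7 7)) r (r + 8) w (P >>> r) (pw4 r w P) au = true := by
    cases au with
    | nil => rfl
    | cons b l =>
      unfold auF at h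
      simp only [frc_eq, ph_eq, tb_eq] at h
      rw [← Nat.shiftLeft_eq]
      exact h
  generalize rw8 r (r + 8) _ _ _ _ _ _ = row at hm h0
  have h3 := allL_spec h0 a ha
  obtain ⟨Y, I, sh⟩ := a
  have h6 : (frc (Nat.mod Y 2305843009213693951) fun s => frc (rowsF r r sh (idm r r)) fun μ =>
      band (Nat.beq (lin (gt r (sl s μ)) (pw4 r w P) (hm4 row r (r + 8) (sl s Y) w (P >>> r)) r) 0)
      (Nat.blt (iv8 (mr row r (r + 8)) (gt (r + 8) (sl s Y)) r (sl s I)) (Nat.pow 2 r))) = true := h3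
  rw [frc_eq, frc_eq, rowsF_eq] at h6
  obtain ⟨h7, h8⟩ := band_spec h6
  have h9 : lin (gt r (rows r r sh (idm r r))) (pw4 r w P) (hm4 row r (r + 8) Y w (P >>> r)) r = 0 :=
    Nat.eq_of_beq_eq_true h7
  have hY := gt_lt (r + 8) Y
  have h10 : ∀ k, k < 8 → ∀ j, j ≤ k → ∃ T, T < 2 ^ r ∧ dot r T c = dot r (relf r w P k j) (act r sh c) ∧
      (fun d => d < 2 ^ r ∧ dot r d c = false) (gt 44 (hm4 row r (r + 8) Y w (P >>> r)) (tr k j) ^^^ T) :=
    fun k hk j hj => by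
      obtain ⟨T, a1, a2, a3⟩ := lin_spec (by omega) (gt_lt r _) (pw4 r w P) (hm4 row r (r + 8) Y w (P >>> r))
        ((tr_lt hj hk).trans (show tr 8 0 < 64 by decide)) r (by omega) (rows_spec hr (fun a => dot r a c)
          (dot_zero_left r c) (fun a b => dot_xor_left r a b c) sh (idm r r) c fun i hi => by
            rw [idm_spec i r le_rfl, if_pos hi, dot_two_pow hi])
      rw [pw4_spec h4 w P hk hj] at a3
      rw [h9, gt_big (N := 0) (Nat.two_pow_pos _) (Nat.zero_le _)] at a2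
      exact ⟨T, a1, a3, a2 ▸ ⟨Nat.two_pow_pos r, dot_zero_left r c⟩⟩
  unfold hm4 at h10
  simp only [cm2_eq] at h10
  obtain ⟨h11, h12⟩ := val_lt hm hY (h1.toEv hb).zero r w P h4
  refine ⟨_, hom8 h1 hb hm hY hb (fun k hk => ?_) fun k hk j hj => ?_, gn8 h1 hb hm hY (blt_lt h8) h2⟩
  · have h13 := h10 k hk k le_rfl
    rwa [(pk4_spec h11 h12 hk).1, tp_eq] at h13
  · have h13 := h10 k hk j hj.le
    rwa [(pk4_spec h11 h12 hk).2 j hj, tp_eq] at h13

theorem eqc_spec (h : Rel r 8 R c z x) (hb : Bd r 8 R) (hz : z ≠ 1) (hm : Mu (r + 7) (ev r 8 c z x) m) (s : ℕ) :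
    eqc m R r s < 2 ^ r ∧ dot r (eqc m R r s) c = false := by
  have he := h.toEv hb
  have key : ∀ A B, ev r 8 c z x A = ev r 8 c z x B → eq4 r (A ^^^ B) < 2 ^ r ∧ dot r (eq4 r (A ^^^ B)) c = false :=
    fun A B h0 => by
      unfold eq4
      cases h3 : Nat.blt (A ^^^ B) (Nat.pow 2 r)
      · exact ⟨Nat.two_pow_pos r, dot_zero_left r c⟩
      · have h1 : A ^^^ B < 2 ^ r := blt_lt h3
        have h2 := he.tail _ h1 A
        rw [← Nat.xor_assoc, Nat.xor_self, Nat.zero_xor, h0, left_eq_mul, ev_tail h1] at h2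
        refine ⟨h1, ?_⟩
        show dot r (A ^^^ B) c = false
        cases h4 : dot r (A ^^^ B) c
        · rfl
        · rw [h4] at h2
          exact (hz h2).elim
  have h7 : ∀ a : ℕ, Nat.land a 7 < 8 := fun a => Nat.lt_succ_of_le Nat.and_le_right
  unfold eqc
  generalize ev r 8 c z x = e at he key hm
  have hi := h7 s
  have hj := h7 (Nat.shiftRight s 3)
  have hk := h7 (Nat.shiftRight s 6)
  generalize Nat.land s 7 = i, Nat.land (Nat.shiftRight s 3) 7 = j, Nat.land (Nat.shiftRight s 6) 7 = k at hi hj hk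
  have hR : ∀ {k j}, k < 8 → j ≤ k → R k j < 2 ^ (r + 7) := fun hk hj =>
    (he.bd _ hk _ hj).trans_le (Nat.pow_le_pow_right (by norm_num) (by omega))
  have hu : ∀ {k j i}, j < k → k < 8 → i ≤ j → R j i < 2 ^ (r + k) := fun h1 hk hj =>
    (he.bd _ (h1.trans hk) _ hj).trans (Nat.pow_lt_pow_right (by norm_num) (by omega))
  unfold eqt
  cases h1 : Nat.blt i j <;> cases h2 : Nat.blt j k
  · refine key _ _ (mul_left_cancel (a := e (2 ^ (r + j))) ?_)
    rw [← (cjf_spec he hj (by omega) (by omega) hm (he.bd j hj j le_rfl)).2, ← he.pw j hj, mul_assoc]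
  · have h3 := blt_lt h2
    refine key _ _ (mul_left_cancel (a := e (2 ^ (r + k))) ?_)
    rw [← (cjf_spec he hk (by omega) (by omega) hm (hu h3 hk le_rfl)).2, ← (hm _ (hR hk h3.le) _ (hR hk h3.le)).2,
      ← he.pw j hj, mul_assoc, he.cj k hk j h3, ← mul_assoc, he.cj k hk j h3, mul_assoc]
  · have h3 := blt_lt h1
    refine key _ _ ?_
    rw [← one_mul (e (fw _ _ _ _ _)), ← fw_spec he hj (by omega) (by omega) hm (hR hj le_rfl) (he.bd j hj i h3.le)
      ((he.pw j hj).trans (one_mul _).symm), ← he.cj j hj i h3, mul_assoc, he.pw j hj]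
    exact (hm _ (Nat.pow_lt_pow_right (by norm_num) (by omega)) _ (hR hj le_rfl)).2
  · have h3 := blt_lt h1
    have h4 := blt_lt h2
    refine key _ _ (mul_left_cancel (a := e (2 ^ (r + k))) ?_)
    rw [← fw_spec he hk (by omega) (by omega) hm (hR hk h4.le) (hu h4 hk h3.le) (he.cj k hk j h4),
      ← (hm _ (hR hk (by omega)) _ (hR hk h4.le)).2, ← he.cj j hj i h3, mul_assoc, he.cj k hk j h4, ← mul_assoc,
      he.cj k hk i (by omega), mul_assoc]

theorem el_twist (z2 : z * z = 1) (zc : ∀ b g, zp z b * g = g * zp z b) (C v : ℕ) :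
    ∀ n, el (fun i => x i * zp z (C.testBit i)) n v = el x n v * zp z (dot n v C)
  | 0 => (mul_one _).symm
  | n + 1 => by
    rw [Pc.el_succ, Pc.el_succ, el_twist z2 zc C v n, dot_succ, Pc.zp_xor z2]
    cases v.testBit n
    · exact by simp [zp]
    · simp only [cond_true, Bool.true_and, mul_assoc]
      rw [zc, mul_assoc]

theorem redF_spec {w P ne tri nu t : ℕ} (hr : r + 8 ≤ 44) (h : redF r (pw4 r w P) ne tri nu = true) (hz : z ≠ 1)
    (h1 : Rel (tr 8 0) 8 (full (tr 8 0) (topf r w P)) t z x) (h2 : Gn 8 z x) :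
    ∃ c, c < 2 ^ r ∧ ∃ y, Rel r 8 (relf r w P) c z y ∧ Gn 8 z y := by
  unfold redF at h
  rw [frc_eq] at h
  have a1 : Rel 36 8 (rr (rw4 r (pw4 r w P))) t z x := ⟨h1.z2, h1.zc,
    fun k hk => by rw [rw4_spec hr w P hk le_rfl]; exact h1.pw k hk,
    fun k hk j hj => by rw [rw4_spec hr w P hk hj.le]; exact h1.cj k hk j hj⟩
  have a2 : Bd 36 8 (rr (rw4 r (pw4 r w P))) := fun k hk j hj => by
    rw [rw4_spec hr w P hk hj]
    exact (topf_bd r 8 w P).full k hk j hj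
  have a3 := eqc_spec a1 a2 hz (mq_spec (a1.toEv a2) (by norm_num) (by norm_num) (ch7_spec (a1.toEv a2) (by norm_num)))
  obtain ⟨B, -, hB⟩ := exists_bits (fun i => dot 36 (gt 36 nu i) t) (r + 8)
  have a4 : ∀ k, k < 8 → ∀ j, j ≤ k → t.testBit (tr k j) =
      xor (dot (r + 8) (relf r w P k j) B) (dot (r + 8) (gt 44 c36 (tr k j) * 2 ^ r) B) := fun k hk j hj => by
    have b0 : tr k j < 36 := tr_lt hj hk
    obtain ⟨b1, b2⟩ := pe_spec (s := 36) (t := t) (D := lin (gt 36 nu) (pw4 r w P ^^^ c36 * 2 ^ r) i36 (r + 8))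
      (fun s => ⟨(a3 (Nat.shiftRight tri (Nat.mul 9 s))).1.trans (by norm_num), (a3 _).2⟩) ne
    have b3 := gs_spec b1 ne le_rfl (tr k j)
    obtain ⟨T, -, b4, b5⟩ := lin_spec (by norm_num) (gt_lt 36 nu) (pw4 r w P ^^^ c36 * 2 ^ r) i36
      (show tr k j < 64 by omega) (r + 8) hr fun i hi => (hB i hi).symm
    erw [Nat.eq_of_beq_eq_true h] at b3
    rw [gt_big (N := 0) (Nat.two_pow_pos _) (Nat.zero_le _), dot_zero_left, b2, b4, dot_xor_left, i36_spec _ b0,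
      dot_two_pow b0, b5, gt_xor, pw4_spec hr w P hk hj, dot_xor_left, gt_mul _ _ fun v => by
        have b6 := Nat.mul_lt_mul_of_pos_right (c36_lt v) (Nat.two_pow_pos r)
        rw [← pow_add] at b6
        exact b6.trans_le (Nat.pow_le_pow_right (by norm_num) (by omega))] at b3
    revert b3
    cases t.testBit (tr k j) <;> cases xor (dot (r + 8) (relf r w P k j) B) _ <;> simp
  have a5 : ∀ A, ev r 8 (low r B) z (fun i => x i * zp z ((B >>> r).testBit i)) A =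
      el x 8 (A >>> r) * zp z (dot (r + 8) A B) := fun A => by
    unfold ev
    rw [el_twist h1.z2 h1.zp_comm, mul_assoc, ← Pc.zp_xor h1.z2, dot_comm r, dot_low, dot_comm r, Bool.xor_comm]
    unfold dot
    rw [par_add, Nat.shiftRight_and_distrib]
  refine ⟨low r B, low_lt r B, fun i => x i * zp z ((B >>> r).testBit i), ⟨h1.z2, h1.zc, fun k hk => ?_,
    fun k hk j hj => ?_⟩, fun H h3 h4 => h2 H h3 fun k hk => ?_⟩
  · have b1 := h1.pw k hk
    rw [ev_full hk le_rfl, a4 k hk k le_rfl, (c36_spec k hk).1, Nat.zero_mul, dot_zero_left, Bool.xor_false] at b1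
    rw [a5, mul_assoc, h1.zp_comm, mul_assoc, ← Pc.zp_xor h1.z2, Bool.xor_self, ← mul_assoc, b1]
    exact mul_one _
  · have b1 := h1.cj k hk j hj
    rw [ev_full hk hj.le, a4 k hk j hj.le, (c36_spec k hk).2 j hj, ← pow_add, dot_two_pow (show j + r < r + 8 by omega),
      Pc.zp_xor h1.z2] at b1
    rw [a5, Nat.testBit_shiftRight, Nat.testBit_shiftRight, Nat.add_comm r j, mul_assoc, h1.zp_comm, ← mul_assoc,
      ← mul_assoc, b1, show topf r w P k j = relf r w P k j >>> r from rfl, mul_assoc _ _ (zp z (B.testBit (j + r))),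
      h1.zp_comm (B.testBit (r + k)), mul_assoc (x k) (zp z _), h1.zp_comm (B.testBit (r + k))]
    simp only [mul_assoc]
    rw [← mul_assoc (zp z (B.testBit (j + r))), ← Pc.zp_xor h1.z2, Bool.xor_self]
    exact congrArg _ (congrArg _ (congrArg _ (one_mul _)))
  · have b1 := H.mul_mem (h4 k hk) (zp_mem h3 ((B >>> r).testBit k))
    rwa [mul_assoc, ← Pc.zp_xor h1.z2, Bool.xor_self, show zp z false = 1 from rfl, mul_one] at b1

end

end Cfsg.Agent.FS.Gen.F
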